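import Cfsg.Agent.Lib.Invol.Big.Code
import Cfsg.Agent.Lib.Spor.ExtraspecialOut
import Cfsg.Agent.Lib.Classical.OrthSpinor
import Cfsg.Agent.Lib.Classical.OrthCount

/-!
# The coded model from an extraspecial normal subgroup of an involution centralizer
-/

set_option autoImplicit false
set_option linter.unusedSectionVars false
set_option quotPrecheck false

namespace Cfsg.Agent.Invol.Big

open scoped commutatorElement
open Cfsg Cfsg.Agent.Classical.BinCoc Cfsg.Agent.Classical.OrthAut Cfsg.Agent.Spor.ExtraOut Matrix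

variable {G : Type*} [Group G] [Finite G]

section

variable (z : G) (hz : orderOf z = 2) (Q : Subgroup (Subgroup.centralizer ({z} : Set G))) [Q.Normal]
  (hcq : Subgroup.centralizer (Q : Set (Subgroup.centralizer ({z} : Set G))) ≤ Q)

include hcq in
theorem zmem : (⟨z, Subgroup.mem_centralizer_singleton_iff.2 rfl⟩ : (Subgroup.centralizer ({z} : Set G))) ∈ Q :=
  hcq (Subgroup.mem_centralizer_iff.2 fun y _ => Subtype.ext (Subgroup.mem_centralizer_singleton_iff.1 y.2))

variable {ι : Type} [Fintype ι] [DecidableEq ι] {z0 : ↥Q} {π : ↥Q →* Multiplicative (ι → ZMod 2)}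
  {q : QuadraticForm (ZMod 2) (ι → ZMod 2)}

/-- The action on the quotient. -/
noncomputable def rho (d : Data z0 π q) : (Subgroup.centralizer ({z} : Set G)) →* isometryGroup (ZMod 2) ⇑q := (toIso d).comp MulAut.conjNormal

include hz hcq in
theorem data_centre (d : Data z0 π q) : ((z0 : (Subgroup.centralizer ({z} : Set G))) : G) = z := by
  set z' : ↥Q := ⟨_, zmem z Q hcq⟩
  have hcomm : ∀ x : ↥Q, x * z' = z' * x := fun x =>
    Subtype.ext (Subtype.ext (Subgroup.mem_centralizer_singleton_iff.1 (x : (Subgroup.centralizer ({z} : Set G))).2))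
  have hπ : π z' = 1 := by
    rw [← toAdd_eq_zero]
    refine eq_zero_of_polar d.nd fun u => ?_
    obtain ⟨x, hx⟩ := d.surj (Multiplicative.ofAdd u)
    have e := conj_pw d z' x
    rw [← hcomm, mul_inv_cancel_right, hx, toAdd_ofAdd] at e
    exact pw_inj d.ne ((mul_eq_left.1 e.symm).trans (pw_zero _).symm)
  rcases (d.ker z').1 hπ with e | e
  · exfalso
    have : z = 1 := congrArg (fun w : ↥Q => ((w : (Subgroup.centralizer ({z} : Set G))) : G)) e
    rw [this, orderOf_one] at hz
    omega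
  · rw [← e]

include hcq in
theorem ker_rho (d : Data z0 π q) : (rho z Q d).ker = Q := by
  ext c
  rw [rho, MonoidHom.mem_ker, MonoidHom.comp_apply, ← MonoidHom.mem_ker, toIso_ker]
  constructor
  · rintro ⟨a, ha⟩
    have hc : (a : (Subgroup.centralizer ({z} : Set G)))⁻¹ * c ∈ Subgroup.centralizer (Q : Set (Subgroup.centralizer ({z} : Set G))) := by
      refine Subgroup.mem_centralizer_iff.2 fun y hy => ?_
      have e := congrArg Subtype.val (DFunLike.congr_fun ha ⟨y, hy⟩)
      simp only [MulAut.conj_apply, MulAut.conjNormal_apply, Subgroup.coe_mul, Subgroup.coe_inv] at e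
      calc y * ((a : (Subgroup.centralizer ({z} : Set G)))⁻¹ * c) = (a : (Subgroup.centralizer ({z} : Set G)))⁻¹ * ((a : (Subgroup.centralizer ({z} : Set G))) * y * (a : (Subgroup.centralizer ({z} : Set G)))⁻¹) * c := by group
        _ = (a : (Subgroup.centralizer ({z} : Set G)))⁻¹ * (c * y * c⁻¹) * c := by rw [e]
        _ = _ := by group
    have := mul_mem a.2 (hcq hc)
    rwa [mul_inv_cancel_left] at this
  · intro hc
    refine ⟨⟨c, hc⟩, MulEquiv.ext fun y => Subtype.ext ?_⟩
    simp [MulAut.conj_apply, MulAut.conjNormal_apply]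

include hcq in
theorem card_range (d : Data z0 π q) : Nat.card (rho z Q d).range = Q.index := by
  rw [← Subgroup.index_ker, ker_rho z Q hcq d]

include hcq in
theorem card_centralizer (d : Data z0 π q) :
    Nat.card (Subgroup.centralizer ({z} : Set G)) = Nat.card (rho z Q d).range * Nat.card Q := by
  rw [card_range z Q hcq d, mul_comm, Subgroup.card_mul_index]

/-- A range of index two is the derived subgroup. -/
theorem omega_le_range (d : Data z0 π q) (h : Nat.card (rho z Q d).range * 2 = Nat.card (isometryGroup (ZMod 2) ⇑q)) :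
    Omega (ZMod 2) ⇑q ≤ (rho z Q d).range := by
  set R := (rho z Q d).range
  have hidx : R.index = 2 := by
    have := R.card_mul_index
    rw [← h] at this
    exact Nat.eq_of_mul_eq_mul_left Nat.card_pos this
  show commutator _ ≤ R
  rw [commutator_def, Subgroup.commutator_le]
  intro a _ b _
  rw [commutatorElement_def, Subgroup.mul_mem_iff_of_index_two hidx, Subgroup.mul_mem_iff_of_index_two hidx,
    Subgroup.mul_mem_iff_of_index_two hidx, inv_mem_iff, inv_mem_iff]
  tauto

include hz hcq in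
theorem code_of (d : Data z0 π q) (hle : Omega (ZMod 2) ⇑q ≤ (rho z Q d).range) (hG : GenQ (ZMod 2) ι)
    (n : ℕ) (qb : ℕ → Bool) (pos : ι → ℕ) (hq : ∀ a < 2 ^ n, q (dec pos a) = bz (qb a))
    (hs : ∀ v : ι → ZMod 2, ∃ a < 2 ^ n, dec pos a = v) (hdec : ∀ a < 2 ^ n, dec pos a = 0 → a = 0) :
    ∃ cd : G → ℕ, Code (bare n qb) z (Q.map (Subgroup.centralizer ({z} : Set G)).subtype) cd := by
  classical
  haveI : Fact (Nat.Prime 2) := ⟨Nat.prime_two⟩
  set K := bare n qb
  have hz0 := data_centre z hz Q hcq d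
  have hzG : z * z = 1 := by rw [← pow_two, ← hz, pow_orderOf_eq_one]
  choose enc henc hencd using hs
  have hs' : ∀ v : ι → ZMod 2, ∃ a < 2 ^ K.n, dec pos a = v := fun v => ⟨_, henc v, hencd v⟩
  have hinj : ∀ {a b : ℕ}, a < 2 ^ n → b < 2 ^ n → dec pos a = dec pos b → a = b := fun ha hb =>
    dec_inj K hq hs' hdec ha hb
  set Q' := Q.map (Subgroup.centralizer ({z} : Set G)).subtype
  let cd : G → ℕ := fun x => if hx : ∃ w : ↥Q, ((w : (Subgroup.centralizer ({z} : Set G))) : G) = x then enc (π hx.choose).toAdd else 0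
  have hcd : ∀ w : ↥Q, cd ((w : (Subgroup.centralizer ({z} : Set G))) : G) = enc (π w).toAdd := fun w => by
    have hx : ∃ v : ↥Q, ((v : (Subgroup.centralizer ({z} : Set G))) : G) = ((w : (Subgroup.centralizer ({z} : Set G))) : G) := ⟨w, rfl⟩
    simp only [cd, dif_pos hx]
    rw [show hx.choose = w from Subtype.ext (Subtype.ext hx.choose_spec)]
  have hmem : ∀ x ∈ Q', ∃ w : ↥Q, ((w : (Subgroup.centralizer ({z} : Set G))) : G) = x := by
    rintro _ ⟨c, hc, rfl⟩; exact ⟨⟨c, hc⟩, rfl⟩
  have hval : ∀ w : ↥Q, ((w : (Subgroup.centralizer ({z} : Set G))) : G) ∈ Q' := fun w => ⟨_, w.2, rfl⟩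
  have hpw : ∀ t : ZMod 2, (((pw z0 t : ↥Q) : (Subgroup.centralizer ({z} : Set G))) : G) = z ^ t.val := by
    intro t
    rcases two_cases t with rfl | rfl
    · simp [pw_zero]
    · rw [pw_one, hz0, ZMod.val_one, pow_one]
  refine ⟨cd, ⟨⟨⟨_, zmem z Q hcq, rfl⟩, fun e => by rw [e, orderOf_one] at hz; omega, hzG, ?_, ?_, ?_, ?_, ?_, ?_⟩,
    ?_, ?_, ?_, ?_, ?_, ?_, ?_⟩⟩
  · intro x hx
    exact Subgroup.mem_centralizer_singleton_iff.1 (Subgroup.map_subtype_le _ hx)
  · intro x hx y hy
    obtain ⟨a, rfl⟩ := hmem x hx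
    obtain ⟨b, rfl⟩ := hmem y hy
    have e : ⁅a, b⁆ = pw z0 (QuadraticMap.polar q (π a).toAdd (π b).toAdd) := by
      rw [commutatorElement_def, conj_pw d a b,
        pw_comm d.comm b, mul_inv_cancel_right]
    have e' := congrArg (fun w : ↥Q => ((w : (Subgroup.centralizer ({z} : Set G))) : G)) e
    rw [hpw] at e'
    simp only [commutatorElement_def, Subgroup.coe_mul, Subgroup.coe_inv] at e' ⊢
    rw [e']
    rcases two_cases (QuadraticMap.polar q (π a).toAdd (π b).toAdd) with h | h <;> rw [h]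
    · exact Or.inl (pow_zero z)
    · exact Or.inr (by rw [ZMod.val_one, pow_one])
  · intro x hx
    obtain ⟨a, rfl⟩ := hmem x hx
    have e' := congrArg (fun w : ↥Q => ((w : (Subgroup.centralizer ({z} : Set G))) : G)) (d.sq a)
    rw [hpw] at e'
    simp only [Subgroup.coe_mul] at e'
    rw [e']
    rcases two_cases (q (π a).toAdd) with h | h <;> rw [h]
    · exact Or.inl (pow_zero z)
    · exact Or.inr (by rw [ZMod.val_one, pow_one])
  · intro x hx hc
    obtain ⟨a, rfl⟩ := hmem x hx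
    have hπ : π a = 1 := by
      rw [← toAdd_eq_zero]
      refine eq_zero_of_polar d.nd fun u => ?_
      obtain ⟨y, hy⟩ := d.surj (Multiplicative.ofAdd u)
      have e := conj_pw d a y
      have hay : a * y = y * a := Subtype.ext (Subtype.ext (hc _ (hval y)).symm)
      rw [hay, mul_inv_cancel_right, hy, toAdd_ofAdd] at e
      exact pw_inj d.ne ((mul_eq_left.1 e.symm).trans (pw_zero _).symm)
    rcases (d.ker a).1 hπ with rfl | rfl
    · exact Or.inl rfl
    · exact Or.inr hz0
  · intro c hc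
    have hcz : c ∈ (Subgroup.centralizer ({z} : Set G)) := Subgroup.mem_centralizer_singleton_iff.2 (hc z ⟨_, zmem z Q hcq, rfl⟩).symm
    exact ⟨⟨c, hcz⟩, hcq (Subgroup.mem_centralizer_iff.2 fun y hy => Subtype.ext (hc _ ⟨y, hy, rfl⟩)), rfl⟩
  · rintro c hc _ ⟨y, hy, rfl⟩
    exact ⟨_, ‹Q.Normal›.conj_mem y hy ⟨c, Subgroup.mem_centralizer_singleton_iff.2 hc⟩, rfl⟩
  · refine IsPGroup.map ?_ _
    intro x
    refine ⟨2, ?_⟩
    rw [show 2 ^ 2 = 2 * 2 from rfl, pow_mul, pow_two x, d.sq, pow_two, ← pw_add d.zz, double, pw_zero]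
  · intro x hx
    obtain ⟨a, rfl⟩ := hmem x hx
    rw [hcd]; exact henc _
  · intro a ha
    obtain ⟨w, hw⟩ := d.surj (Multiplicative.ofAdd (dec pos a))
    refine ⟨_, hval w, ?_⟩
    rw [hcd]
    exact hinj (henc _) ha (by rw [hencd, hw, toAdd_ofAdd])
  · intro x hx y hy
    obtain ⟨a, rfl⟩ := hmem x hx
    obtain ⟨b, rfl⟩ := hmem y hy
    rw [show (((a : (Subgroup.centralizer ({z} : Set G))) : G) * ((b : (Subgroup.centralizer ({z} : Set G))) : G)) = (((a * b : ↥Q) : (Subgroup.centralizer ({z} : Set G))) : G) from rfl, hcd, hcd, hcd]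
    refine hinj (henc _) (Nat.xor_lt_two_pow (henc _) (henc _)) ?_
    rw [hencd, dec_xor, hencd, hencd, map_mul, toAdd_mul]
  · intro x hx
    obtain ⟨a, rfl⟩ := hmem x hx
    rw [hcd]
    constructor
    · intro e
      have hπ : π a = 1 := by rw [← toAdd_eq_zero, ← hencd (π a).toAdd, e, dec_zero]
      rcases (d.ker a).1 hπ with rfl | rfl
      · exact Or.inl rfl
      · exact Or.inr hz0
    · intro e
      have hπ : π a = 1 := (d.ker a).2 (e.imp (fun e => Subtype.ext (Subtype.ext e))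
        fun e => Subtype.ext (Subtype.ext (e.trans hz0.symm)))
      exact hdec _ (henc _) (by rw [hencd, hπ, toAdd_one])
  · intro x hx
    obtain ⟨a, rfl⟩ := hmem x hx
    have e' := congrArg (fun w : ↥Q => ((w : (Subgroup.centralizer ({z} : Set G))) : G)) (d.sq a)
    rw [hpw] at e'
    simp only [Subgroup.coe_mul] at e'
    rw [e', hcd]
    congr 1
    have h1 := hq _ (henc (π a).toAdd)
    rw [hencd] at h1
    rw [h1]
    show (bz (qb (enc (π a).toAdd))).val = if qb (enc (π a).toAdd) = true then 1 else 0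
    cases qb (enc (π a).toAdd) <;> rfl
  · intro w hw
    simp only [Wok, Bool.and_eq_true, List.all_eq_true, decide_eq_true_eq, beq_iff_eq] at hw
    obtain ⟨⟨hwq, hwl⟩, -⟩ := hw
    suffices ∀ l : List ℕ, (∀ a ∈ l, qb a = true ∧ a < 2 ^ n) →
        ∃ g : isometryGroup (ZMod 2) ⇑q, dickGen d.nd hG g = (-1) ^ l.length ∧
          ∀ u < 2 ^ n, wd K l u < 2 ^ n ∧ ogVal g *ᵥ dec pos u = dec pos (wd K l u) by
      obtain ⟨g, hg1, hg2⟩ := this w hwq
      have hgΩ : g ∈ Omega (ZMod 2) ⇑q := by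
        refine (mem_omega_gen d.nd hG g).2 ⟨?_, spin_two d.nd (show (2 : ZMod 2) = 0 from rfl) g⟩
        show dickGen d.nd hG g = 1
        rw [hg1, Even.neg_one_pow (Nat.even_iff.2 hwl)]
      obtain ⟨c, hc⟩ := hle hgΩ
      refine ⟨c, Subgroup.mem_centralizer_singleton_iff.1 c.2, fun x hx => ?_⟩
      obtain ⟨a, rfl⟩ := hmem x hx
      rw [show (c : G) * ((a : (Subgroup.centralizer ({z} : Set G))) : G) * (c : G)⁻¹ = (((MulAut.conjNormal c a : ↥Q) : (Subgroup.centralizer ({z} : Set G))) : G) from rfl,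
        hcd, hcd]
      refine hinj (henc _) (hg2 _ (henc _)).1 ?_
      rw [hencd, ← (hg2 _ (henc _)).2, hencd, ← hc]
      show _ = LinearMap.toMatrix' (ind d (MulAut.conjNormal c)) *ᵥ _
      rw [LinearMap.toMatrix'_mulVec, ind_apply]
    intro l
    induction l with
    | nil => exact fun _ => ⟨1, by simp, fun u hu => ⟨hu, by rw [ogVal_one, Matrix.one_mulVec]; rfl⟩⟩
    | cons w l ih =>
      intro hl
      obtain ⟨g, hg1, hg2⟩ := ih fun a ha => hl a (List.mem_cons_of_mem _ ha)
      obtain ⟨hwb, hwn⟩ := hl w (List.mem_cons_self ..)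
      have hne : q (dec pos w) ≠ 0 := by rw [hq w hwn, show qb w = true from hwb]; simp [bz]
      refine ⟨Classical.OrthAut.refl hne * g, ?_, fun u hu => ?_⟩
      · rw [map_mul, hg1, show dickGen d.nd hG (Classical.OrthAut.refl hne) = -1 from dick_refl d.nd hne, List.length_cons, pow_succ']
      · obtain ⟨h1, h2⟩ := hg2 u hu
        obtain ⟨h3, h4⟩ := refl_dec K hq hs' hdec hwn h1 hwb hne
        exact ⟨h3, by rw [ogVal_mul, ← Matrix.mulVec_mulVec, h2, h4]; rfl⟩

end

end Cfsg.Agent.Invol.Big
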