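import Cfsg.Agent.Lib.Invol.Big.Engine
import Cfsg.Agent.Lib.Spor.ExtraPairCore

/-!
# An extraspecial group with a coded quotient, and the action of the centralizer of its centre
-/

set_option autoImplicit false
set_option linter.unusedSectionVars false

namespace Cfsg.Agent.Invol.Big

open Cfsg.Agent.Classical.BinCoc Cfsg.Agent.Spor.ExtraPair

variable {G : Type*} [Group G]

/-- An extraspecial `Q` with centre `z`, its quotient coded by the numbers below `2 ^ n`. -/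
structure Code (K : Cert) (z : G) (Q : Subgroup G) (cd : G → ℕ) : Prop where
  ext : Ext z Q
  two : IsPGroup 2 Q
  lt : ∀ x ∈ Q, cd x < 2 ^ K.n
  surj : ∀ a < 2 ^ K.n, ∃ x ∈ Q, cd x = a
  mul : ∀ x ∈ Q, ∀ y ∈ Q, cd (x * y) = cd x ^^^ cd y
  ker : ∀ x ∈ Q, (cd x = 0 ↔ x = 1 ∨ x = z)
  sq : ∀ x ∈ Q, x * x = z ^ qn K (cd x)
  lift : ∀ w, Wok K w = true → ∃ c, c * z = z * c ∧ ∀ x ∈ Q, cd (c * x * c⁻¹) = wd K w (cd x)

namespace Code

variable {K : Cert} {z : G} {Q : Subgroup G} {cd : G → ℕ}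

theorem ne (h : Code K z Q cd) : z ≠ 1 := h.ext.ne

theorem ord (h : Code K z Q cd) : orderOf z = 2 := by
  haveI : Fact (Nat.Prime 2) := ⟨Nat.prime_two⟩
  rw [orderOf_eq_prime_iff, pow_two]
  exact ⟨h.ext.zz, h.ext.ne⟩

theorem zinv (h : Code K z Q cd) : z⁻¹ = z := inv_eq_of_mul_eq_one_right h.ext.zz

theorem pow_xor (h : Code K z Q cd) {a b : ℕ} (ha : a ≤ 1) (hb : b ≤ 1) : z ^ (a ^^^ b) = z ^ a * z ^ b := by
  interval_cases a <;> interval_cases b <;> simp [h.ext.zz]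

theorem pow_inj (h : Code K z Q cd) {a b : ℕ} (ha : a ≤ 1) (hb : b ≤ 1) (e : z ^ a = z ^ b) : a = b := by
  interval_cases a <;> interval_cases b <;> simp [h.ne, Ne.symm h.ne] at e ⊢

theorem cd_one (h : Code K z Q cd) : cd 1 = 0 := (h.ker 1 (one_mem _)).2 (Or.inl rfl)

theorem cd_z (h : Code K z Q cd) : cd z = 0 := (h.ker z h.ext.mem).2 (Or.inr rfl)

theorem cd_zpow (h : Code K z Q cd) (k : ℕ) : cd (z ^ k) = 0 := by
  induction k with
  | zero => rw [pow_zero]; exact h.cd_one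
  | succ k ih => rw [pow_succ, h.mul _ (pow_mem h.ext.mem k) _ h.ext.mem, ih, h.cd_z, Nat.xor_self]

theorem cd_inv (h : Code K z Q cd) {x : G} (hx : x ∈ Q) : cd x⁻¹ = cd x := by
  have := h.mul x hx x⁻¹ (inv_mem hx)
  rw [mul_inv_cancel, h.cd_one] at this
  exact (Nat.xor_eq_zero_iff.1 this.symm).symm

theorem cd_eq_iff (h : Code K z Q cd) {x y : G} (hx : x ∈ Q) (hy : y ∈ Q) :
    cd x = cd y ↔ y = x ∨ y = x * z := by
  rw [← Nat.xor_eq_zero_iff, ← h.cd_inv hx, ← h.mul _ (inv_mem hx) _ hy, h.ker _ (mul_mem (inv_mem hx) hy),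
    inv_mul_eq_one, inv_mul_eq_iff_eq_mul, eq_comm (a := x)]

theorem inv_eq (h : Code K z Q cd) {x : G} (hx : x ∈ Q) : x⁻¹ = x * z ^ qn K (cd x) := by
  rw [← h.sq x hx]
  have hz2 : (z ^ qn K (cd x)) * z ^ qn K (cd x) = 1 := by
    rw [← pow_add, ← two_mul, pow_mul, pow_two, h.ext.zz, one_pow]
  refine inv_eq_of_mul_eq_one_right ?_
  rw [← mul_assoc, h.sq x hx, hz2]

theorem sq_iff (h : Code K z Q cd) {x : G} (hx : x ∈ Q) : x * x = 1 ↔ K.q (cd x) = false := by
  rw [h.sq x hx, qn]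
  cases K.q (cd x) <;> simp [h.ne]

theorem conj_bq (h : Code K z Q cd) {x y : G} (hx : x ∈ Q) (hy : y ∈ Q) :
    x * y * x⁻¹ = y * z ^ bn K (cd x) (cd y) := by
  have hxy := mul_mem hx hy
  have hq1 : ∀ a, qn K a ≤ 1 := fun a => by unfold qn; split_ifs <;> omega
  have hb : bn K (cd x) (cd y) = qn K (cd (x * y)) ^^^ (qn K (cd x) ^^^ qn K (cd y)) := by
    rw [h.mul x hx y hy]
    unfold bn qn bq
    cases K.q (cd x ^^^ cd y) <;> cases K.q (cd x) <;> cases K.q (cd y) <;> rfl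
  have hpc : ∀ (k : ℕ) {g : G}, g ∈ Q → z ^ k * g = g * z ^ k := fun k g hg =>
    ((show Commute z g from (h.ext.central g hg).symm).pow_left k).eq
  rw [hb, h.pow_xor (hq1 _) (Nat.le_of_lt_succ (Nat.xor_lt_two_pow (n := 1) (by have := hq1 (cd x); omega)
    (by have := hq1 (cd y); omega))), h.pow_xor (hq1 _) (hq1 _), ← h.sq _ hxy]
  calc x * y * x⁻¹ = x * y * (x * z ^ qn K (cd x)) := by rw [h.inv_eq hx]
    _ = (x * y * x * y) * y⁻¹ * z ^ qn K (cd x) := by group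
    _ = (x * y * x * y) * (y * z ^ qn K (cd y)) * z ^ qn K (cd x) := by rw [h.inv_eq hy]
    _ = y * ((x * y * (x * y)) * (z ^ qn K (cd x) * z ^ qn K (cd y))) := by
      rw [show x * y * x * y = x * y * (x * y) by group, h.sq _ hxy, ← mul_assoc, hpc _ hy,
        (Commute.pow_pow (Commute.refl z) (qn K (cd x)) (qn K (cd y))).eq]
      group

theorem commute_iff (h : Code K z Q cd) {x y : G} (hx : x ∈ Q) (hy : y ∈ Q) :
    x * y = y * x ↔ bq K (cd x) (cd y) = false := by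
  rw [← mul_inv_eq_iff_eq_mul, h.conj_bq hx hy, bn]
  cases bq K (cd x) (cd y) <;> simp [h.ne]

/-- A representative of a code. -/
noncomputable def rep (h : Code K z Q cd) (a : ℕ) : G :=
  if ha : a < 2 ^ K.n then Classical.choose (h.surj a ha) else 1

theorem rep_mem (h : Code K z Q cd) (a : ℕ) : h.rep a ∈ Q := by
  unfold rep
  split_ifs with ha
  · exact (Classical.choose_spec (h.surj a ha)).1
  · exact one_mem _

theorem cd_rep (h : Code K z Q cd) {a : ℕ} (ha : a < 2 ^ K.n) : cd (h.rep a) = a := by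
  rw [rep, dif_pos ha]; exact (Classical.choose_spec (h.surj a ha)).2

/-- The action on codes. -/
noncomputable def act (h : Code K z Q cd) (c : G) (a : ℕ) : ℕ := cd (c * h.rep a * c⁻¹)

theorem act_cd (h : Code K z Q cd) {c x : G} (hc : c * z = z * c) (hx : x ∈ Q) :
    h.act c (cd x) = cd (c * x * c⁻¹) := by
  have hr := h.cd_rep (h.lt x hx)
  rcases (h.cd_eq_iff hx (h.rep_mem _)).1 hr.symm with e | e
  · rw [act, e]
  · rw [act, e, show c * (x * z) * c⁻¹ = (c * x * c⁻¹) * (c * z * c⁻¹) by group, hc, mul_inv_cancel_right,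
      h.mul _ (h.ext.norm c hc x hx) _ h.ext.mem, h.cd_z, Nat.xor_zero]

theorem act_lt (h : Code K z Q cd) {c : G} (hc : c * z = z * c) (a : ℕ) : h.act c a < 2 ^ K.n :=
  h.lt _ (h.ext.norm c hc _ (h.rep_mem a))

theorem comm_mul {c d : G} (hc : c * z = z * c) (hd : d * z = z * d) : c * d * z = z * (c * d) :=
  (Commute.mul_left (show Commute c z from hc) (show Commute d z from hd)).eq

theorem comm_inv {c : G} (hc : c * z = z * c) : c⁻¹ * z = z * c⁻¹ :=
  (Commute.inv_left (show Commute c z from hc)).eq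

theorem act_mul (h : Code K z Q cd) {c d : G} (hc : c * z = z * c) (hd : d * z = z * d) {a : ℕ}
    (ha : a < 2 ^ K.n) : h.act (c * d) a = h.act c (h.act d a) := by
  conv_lhs => rw [← h.cd_rep ha]
  conv_rhs => rw [← h.cd_rep ha]
  rw [h.act_cd (comm_mul hc hd) (h.rep_mem a), h.act_cd hd (h.rep_mem a),
    h.act_cd hc (h.ext.norm d hd _ (h.rep_mem a))]
  group

theorem act_one (h : Code K z Q cd) {a : ℕ} (ha : a < 2 ^ K.n) : h.act 1 a = a := by
  rw [act]; simp [h.cd_rep ha]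

theorem act_inv_left (h : Code K z Q cd) {c : G} (hc : c * z = z * c) {a : ℕ} (ha : a < 2 ^ K.n) :
    h.act c⁻¹ (h.act c a) = a := by
  rw [← h.act_mul (comm_inv hc) hc ha, inv_mul_cancel, h.act_one ha]

theorem act_inv_right (h : Code K z Q cd) {c : G} (hc : c * z = z * c) {a : ℕ} (ha : a < 2 ^ K.n) :
    h.act c (h.act c⁻¹ a) = a := by
  rw [← h.act_mul hc (comm_inv hc) ha, mul_inv_cancel, h.act_one ha]

theorem act_xor (h : Code K z Q cd) {c : G} (hc : c * z = z * c) {a b : ℕ} (ha : a < 2 ^ K.n)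
    (hb : b < 2 ^ K.n) : h.act c (a ^^^ b) = h.act c a ^^^ h.act c b := by
  conv_lhs => rw [← h.cd_rep ha, ← h.cd_rep hb, ← h.mul _ (h.rep_mem a) _ (h.rep_mem b)]
  rw [h.act_cd hc (mul_mem (h.rep_mem a) (h.rep_mem b)), ← conj_mul,
    h.mul _ (h.ext.norm c hc _ (h.rep_mem a)) _ (h.ext.norm c hc _ (h.rep_mem b))]
  rfl

theorem conj_zpow' {c : G} (hc : c * z = z * c) (k : ℕ) : c * z ^ k * c⁻¹ = z ^ k := by
  rw [((show Commute c z from hc).pow_right k).eq, mul_inv_cancel_right]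

theorem act_q (h : Code K z Q cd) {c : G} (hc : c * z = z * c) {a : ℕ} (ha : a < 2 ^ K.n) :
    K.q (h.act c a) = K.q a := by
  have hx := h.rep_mem a
  have e := h.sq _ (h.ext.norm c hc _ hx)
  rw [conj_mul, h.sq _ hx, conj_zpow' hc] at e
  have := h.pow_inj (by unfold qn; split_ifs <;> omega) (by unfold qn; split_ifs <;> omega) e
  rw [h.cd_rep ha] at this
  unfold act
  revert this
  unfold qn
  cases K.q a <;> cases K.q (cd (c * h.rep a * c⁻¹)) <;> simp

theorem bq_act (h : Code K z Q cd) {c : G} (hc : c * z = z * c) {a b : ℕ} (ha : a < 2 ^ K.n)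
    (hb : b < 2 ^ K.n) : bq K (h.act c a) (h.act c b) = bq K a b := by
  unfold bq
  rw [← h.act_xor hc ha hb, h.act_q hc ha, h.act_q hc hb, h.act_q hc (Nat.xor_lt_two_pow ha hb)]

theorem mem_iff [Finite G] (h : Code K z Q cd) {c : G} (hc : c * z = z * c) :
    c ∈ Q ↔ ∀ a < 2 ^ K.n, h.act c a = a := by
  constructor
  · intro hcQ a ha
    conv_lhs => rw [← h.cd_rep ha]
    rw [h.act_cd hc (h.rep_mem a), h.conj_bq hcQ (h.rep_mem a), h.mul _ (h.rep_mem a) _ (pow_mem h.ext.mem _),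
      h.cd_zpow, Nat.xor_zero, h.cd_rep ha]
  · intro hall
    refine h.ext.mem_of_trivial fun x hx => ?_
    have e := hall _ (h.lt x hx)
    rw [h.act_cd hc hx] at e
    exact (h.cd_eq_iff hx (h.ext.norm c hc x hx)).1 e.symm

/-- Lifting a word. -/
theorem exists_lift (h : Code K z Q cd) {w : List ℕ} (hw : Wok K w = true) :
    ∃ c, c * z = z * c ∧ ∀ a < 2 ^ K.n, h.act c a = wd K w a := by
  obtain ⟨c, hc, he⟩ := h.lift w hw
  exact ⟨c, hc, fun a ha => by
    conv_lhs => rw [← h.cd_rep ha]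
    rw [h.act_cd hc (h.rep_mem a), he _ (h.rep_mem a), h.cd_rep ha]⟩

theorem act_inv_word (h : Code K z Q cd) {w : List ℕ} (hw : Wok K w = true) {c : G} (hc : c * z = z * c)
    (he : ∀ a < 2 ^ K.n, h.act c a = wd K w a) {a : ℕ} (ha : a < 2 ^ K.n) :
    h.act c⁻¹ a = wd K w.reverse a := by
  simp only [Wok, Bool.and_eq_true, List.all_eq_true, pts, List.mem_range, beq_iff_eq, decide_eq_true_eq] at hw
  have hb : h.act c⁻¹ a < 2 ^ K.n := h.act_lt (comm_inv hc) a
  have e := (hw.2 _ hb).1.1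
  rwa [← he _ hb, h.act_inv_right hc ha, eq_comm] at e

/-- An element of `Q` may correct the image of a conjugate. -/
theorem exists_conj_of_cd (h : Code K z Q cd) {x y : G} (hx : x ∈ Q) (hy : y ∈ Q) (e : cd x = cd y)
    (hnd : cd x ≠ 0 → ∃ w < 2 ^ K.n, bq K w (cd x) = true) (h0 : cd x ≠ 0) : ∃ r ∈ Q, r * x * r⁻¹ = y := by
  rcases (h.cd_eq_iff hx hy).1 e with e' | e'
  · exact ⟨1, one_mem _, by simp [e']⟩
  · obtain ⟨w, hw, hb⟩ := hnd h0
    refine ⟨h.rep w, h.rep_mem w, ?_⟩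
    rw [h.conj_bq (h.rep_mem w) hx, h.cd_rep hw, bn, if_pos hb, pow_one, e']

end Code

end Cfsg.Agent.Invol.Big
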