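import Cfsg.Agent.Lib.Invol.Big.Code

/-!
# Involutions with a given action on the coded quotient
-/

set_option autoImplicit false
set_option linter.unusedSectionVars false

namespace Cfsg.Agent.Invol.Big

open Cfsg.Agent.Classical.BinCoc Cfsg.Agent.Spor.ExtraPair

/-- The fixed vectors. -/
def fixL (K : Cert) (σ : ℕ → ℕ) : List ℕ := (pts K).filter fun v => σ v == v

/-- The moved differences. -/
def imL (K : Cert) (σ : ℕ → ℕ) : List ℕ := (pts K).map fun r => σ r ^^^ r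

/-- A functional agreeing with the form on the moved differences. -/
def coh (K : Cert) (σ : ℕ → ℕ) (A : List ℕ) : Bool :=
  (fixL K σ).all fun v => !((imL K σ).contains v) || A.getD v 0 == qn K v

/-- The basis spans the fixed vectors. -/
def chkBas (K : Cert) (σ : ℕ → ℕ) (bas : List ℕ) : Bool :=
  bas.all (fun b => (fixL K σ).contains b) && (fixL K σ).all fun v => (sp bas).contains v

/-- Enough to lift an involutive action to an involution. -/
def chkLift (K : Cert) (σ γ : ℕ → ℕ) (bas : List ℕ) : Bool :=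
  ((fixL K σ).all fun v => !((imL K σ).contains (γ v ^^^ v)) || (imL K σ).contains v) &&
    ((pts K).all fun v => γ (σ v) == σ (γ v)) &&
      (funcs K bas).all fun A => (fixL K σ).any fun u => A.getD u 0 != qn K u

/-- Enough for the involutions with a given action to be conjugate up to the centre. -/
def chkCoset (K : Cert) (σ γ γ' : ℕ → ℕ) (bas : List ℕ) : Bool :=
  ((pts K).all fun v => γ (σ v) == σ (γ v) && γ' (σ v) == σ (γ' v)) &&
  (funcs K bas).all fun A => !(coh K σ A) || (fixL K σ).all fun v =>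
    A.getD v 0 != qn K v || (imL K σ).contains v ||
      [γ, γ'].any fun g => (fixL K σ).all fun v1 =>
        !((A.getD v1 0 == qn K v1) && (fixL K σ).all fun u => A.getD (g u) 0 ^^^ bn K v1 (g u) == A.getD u 0) ||
          (imL K σ).contains (v ^^^ v1)

/-- The functional is never zero. -/
def chkNZ (K : Cert) (σ : ℕ → ℕ) (bas : List ℕ) : Bool :=
  (funcs K bas).all fun A => !(coh K σ A) || (fixL K σ).any fun u => A.getD u 0 == 1

/-- The kernel of the functional has at least eight vectors. -/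
def chkKer (K : Cert) (σ : ℕ → ℕ) (bas : List ℕ) : Bool :=
  (funcs K bas).all fun A => !(coh K σ A) || decide (8 ≤ ((fixL K σ).filter fun u => A.getD u 0 == 0).length)

namespace Code

variable {G : Type*} [Group G] {K : Cert} {z : G} {Q : Subgroup G} {cd : G → ℕ}

/-- `s` centralizes `z` and acts as `σ`. -/
def Acts (h : Code K z Q cd) (s : G) (σ : ℕ → ℕ) : Prop :=
  s * z = z * s ∧ ∀ a < 2 ^ K.n, h.act s a = σ a

theorem Acts.not_mem [Finite G] {h : Code K z Q cd} {s : G} {σ : ℕ → ℕ} (hs : h.Acts s σ)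
    (hne : (pts K).any (fun a => σ a != a) = true) : s ∉ Q := by
  simp only [List.any_eq_true, pts, List.mem_range, bne_iff_ne] at hne
  obtain ⟨a, ha, hne⟩ := hne
  exact fun hsQ => hne (by rw [← hs.2 a ha]; exact (h.mem_iff hs.1).1 hsQ a ha)

/-- The functional cut out by `s` on its fixed vectors. -/
noncomputable def afun (h : Code K z Q cd) (s : G) (v : ℕ) : ℕ :=
  haveI : DecidableEq G := _root_.Classical.decEq G
  if s * h.rep v * s⁻¹ = h.rep v then 0 else 1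

theorem afun_le (h : Code K z Q cd) (s : G) (v : ℕ) : h.afun s v ≤ 1 := by
  unfold afun; split_ifs <;> omega

theorem mem_fixL {σ : ℕ → ℕ} {v : ℕ} : v ∈ fixL K σ ↔ v < 2 ^ K.n ∧ σ v = v := by
  simp [fixL, pts]

theorem afun_spec (h : Code K z Q cd) {s x : G} (hs : s * z = z * s) (hx : x ∈ Q)
    (hfix : h.act s (cd x) = cd x) : s * x * s⁻¹ = x * z ^ h.afun s (cd x) := by
  have hv := h.lt x hx
  have hr := h.rep_mem (cd x)
  have key : s * h.rep (cd x) * s⁻¹ = h.rep (cd x) * z ^ h.afun s (cd x) := by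
    have e : cd (h.rep (cd x)) = cd (s * h.rep (cd x) * s⁻¹) := by
      rw [h.cd_rep hv]; exact hfix.symm
    rcases (h.cd_eq_iff hr (h.ext.norm s hs _ hr)).1 e with e' | e'
    · rw [afun, if_pos e', pow_zero, mul_one, e']
    · rw [afun, if_neg (fun e'' => h.ne (mul_eq_left.mp (e'.symm.trans e''))), pow_one, e']
  rcases (h.cd_eq_iff hx hr).1 (h.cd_rep hv).symm with e | e
  · rwa [e] at key
  · generalize h.afun s (cd x) = k at key
    rw [e, show s * (x * z) * s⁻¹ = (s * x * s⁻¹) * (s * z * s⁻¹) by group, hs, mul_inv_cancel_right,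
      mul_assoc x z, ((Commute.refl z).pow_right k).eq, ← mul_assoc x] at key
    exact mul_right_cancel key

theorem afun_add (h : Code K z Q cd) {s : G} {σ : ℕ → ℕ} (hs : h.Acts s σ) {a b : ℕ}
    (ha : a ∈ fixL K σ) (hb : b ∈ fixL K σ) :
    a ^^^ b ∈ fixL K σ ∧ h.afun s (a ^^^ b) = h.afun s a ^^^ h.afun s b := by
  obtain ⟨ha1, ha2⟩ := mem_fixL.1 ha
  obtain ⟨hb1, hb2⟩ := mem_fixL.1 hb
  have hab := Nat.xor_lt_two_pow ha1 hb1
  have hfa : h.act s a = a := by rw [hs.2 a ha1, ha2]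
  have hfb : h.act s b = b := by rw [hs.2 b hb1, hb2]
  have hfab : h.act s (a ^^^ b) = a ^^^ b := by rw [h.act_xor hs.1 ha1 hb1, hfa, hfb]
  refine ⟨mem_fixL.2 ⟨hab, by rw [← hs.2 _ hab, hfab]⟩, ?_⟩
  have ea := h.afun_spec hs.1 (h.rep_mem a) (by rw [h.cd_rep ha1, hfa])
  have eb := h.afun_spec hs.1 (h.rep_mem b) (by rw [h.cd_rep hb1, hfb])
  have hc : cd (h.rep a * h.rep b) = a ^^^ b := by
    rw [h.mul _ (h.rep_mem a) _ (h.rep_mem b), h.cd_rep ha1, h.cd_rep hb1]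
  have eab := h.afun_spec hs.1 (mul_mem (h.rep_mem a) (h.rep_mem b)) (by rw [hc, hfab])
  rw [h.cd_rep ha1] at ea
  rw [h.cd_rep hb1] at eb
  rw [hc, ← conj_mul, ea, eb] at eab
  have hpc : z ^ h.afun s a * h.rep b = h.rep b * z ^ h.afun s a :=
    ((show Commute z (h.rep b) from (h.ext.central _ (h.rep_mem b)).symm).pow_left _).eq
  refine (h.pow_inj (h.afun_le s _) (Nat.le_of_lt_succ (Nat.xor_lt_two_pow (n := 1)
    (Nat.lt_succ_of_le (h.afun_le s a)) (Nat.lt_succ_of_le (h.afun_le s b)))) ?_)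
  rw [h.pow_xor (h.afun_le s a) (h.afun_le s b)]
  refine mul_left_cancel (a := h.rep a * h.rep b) (eab.symm.trans ?_)
  calc h.rep a * z ^ h.afun s a * (h.rep b * z ^ h.afun s b)
      = h.rep a * (z ^ h.afun s a * h.rep b) * z ^ h.afun s b := by group
    _ = _ := by rw [hpc]; group

theorem afun_zero (h : Code K z Q cd) {s : G} {σ : ℕ → ℕ} (hs : h.Acts s σ) :
    0 ∈ fixL K σ ∧ h.afun s 0 = 0 := by
  have h0 : σ 0 = 0 := by
    rw [← hs.2 0 (Nat.two_pow_pos _)]
    have := h.act_xor hs.1 (Nat.two_pow_pos K.n) (Nat.two_pow_pos K.n)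
    simpa using this
  have hm : 0 ∈ fixL K σ := mem_fixL.2 ⟨Nat.two_pow_pos _, h0⟩
  exact ⟨hm, by simpa using (h.afun_add hs hm hm).2⟩

theorem afun_table (h : Code K z Q cd) {s : G} {σ : ℕ → ℕ} (hs : h.Acts s σ) {bas : List ℕ}
    (hbas : chkBas K σ bas = true) :
    ∃ T ∈ funcs K bas, ∀ v ∈ fixL K σ, T.getD v 0 = h.afun s v := by
  simp only [chkBas, Bool.and_eq_true, List.all_eq_true, List.contains_iff_mem] at hbas
  obtain ⟨T, hT, hT'⟩ := mem_funcs K (h.afun s) bas (fun b hb => (mem_fixL.1 (hbas.1 b hb)).1)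
    (· ∈ fixL K σ) hbas.1 (fun b _ => h.afun_le s b) (fun a b => h.afun_add hs) (h.afun_zero hs)
  exact ⟨T, hT, fun v hv => hT' v (mem_fixL.1 hv).1 (hbas.2 v hv)⟩

theorem coh_of_invol (h : Code K z Q cd) {s : G} {σ : ℕ → ℕ} (hs : h.Acts s σ) (h2 : s * s = 1)
    {T : List ℕ} (hT : ∀ v ∈ fixL K σ, T.getD v 0 = h.afun s v) : coh K σ T = true := by
  simp only [coh, List.all_eq_true, Bool.or_eq_true, Bool.not_eq_true', beq_iff_eq]
  intro v hv
  by_cases hL : v ∈ imL K σ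
  · refine Or.inr ?_
    rw [hT v hv]
    simp only [imL, List.mem_map, pts, List.mem_range] at hL
    obtain ⟨r, hr, hrv⟩ := hL
    have hsr : s * h.rep r * s⁻¹ ∈ Q := h.ext.norm s hs.1 _ (h.rep_mem r)
    have hlQ := mul_mem hsr (inv_mem (h.rep_mem r))
    have hl : cd (s * h.rep r * s⁻¹ * (h.rep r)⁻¹) = v := by
      rw [h.mul _ hsr _ (inv_mem (h.rep_mem r)), h.cd_inv (h.rep_mem r), h.cd_rep hr, ← hrv, ← hs.2 r hr]
      rfl
    have hsi : s⁻¹ = s := inv_eq_of_mul_eq_one_right h2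
    have e := h.afun_spec hs.1 hlQ (by rw [hl, hs.2 v (mem_fixL.1 hv).1, (mem_fixL.1 hv).2])
    rw [hl] at e
    have hsl : s * (s * h.rep r * s⁻¹ * (h.rep r)⁻¹) * s⁻¹ = (s * h.rep r * s⁻¹ * (h.rep r)⁻¹)⁻¹ := by
      calc s * (s * h.rep r * s⁻¹ * (h.rep r)⁻¹) * s⁻¹
          = (s * s) * h.rep r * s⁻¹ * (h.rep r)⁻¹ * s⁻¹ := by group
        _ = h.rep r * s⁻¹ * (h.rep r)⁻¹ * s⁻¹ := by rw [h2, one_mul]
        _ = h.rep r * s * (h.rep r)⁻¹ * s⁻¹ := by rw [hsi]
        _ = _ := by group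
    rw [hsl, h.inv_eq hlQ, hl] at e
    exact (h.pow_inj (by unfold qn; split_ifs <;> omega) (h.afun_le s v) (mul_left_cancel e)).symm
  · refine Or.inl ?_
    rw [← Bool.not_eq_true, List.contains_iff_mem]
    exact hL

theorem sq_mem [Finite G] (h : Code K z Q cd) {c : G} {σ : ℕ → ℕ} (hc : h.Acts c σ)
    (hσ : (pts K).all (fun a => σ (σ a) == a && decide (σ a < 2 ^ K.n)) = true) : c * c ∈ Q := by
  simp only [List.all_eq_true, pts, List.mem_range, Bool.and_eq_true, beq_iff_eq, decide_eq_true_eq] at hσ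
  refine (h.mem_iff (comm_mul hc.1 hc.1)).2 fun a ha => ?_
  rw [h.act_mul hc.1 hc.1 ha, hc.2 a ha, hc.2 _ (hσ a ha).2, (hσ a ha).1]

theorem Acts.mul_Q [Finite G] {h : Code K z Q cd} {c r : G} {σ : ℕ → ℕ} (hc : h.Acts c σ) (hr : r ∈ Q) :
    h.Acts (c * r) σ := by
  have hrz := h.ext.central r hr
  refine ⟨comm_mul hc.1 hrz, fun a ha => ?_⟩
  rw [h.act_mul hc.1 hrz ha, (h.mem_iff hrz).1 hr a ha, hc.2 a ha]

theorem Acts.conj {h : Code K z Q cd} {c g : G} {σ γ τ : ℕ → ℕ} (hc : h.Acts c σ) (hg : h.Acts g γ)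
    (hτ : ∀ a < 2 ^ K.n, σ a < 2 ^ K.n → γ (σ a) = τ (γ a)) : h.Acts (g * c * g⁻¹) τ := by
  refine ⟨comm_mul (comm_mul hg.1 hc.1) (comm_inv hg.1), fun a ha => ?_⟩
  have hb := h.act_lt (comm_inv hg.1) a
  have hσb : σ (h.act g⁻¹ a) < 2 ^ K.n := by rw [← hc.2 _ hb]; exact h.act_lt hc.1 _
  rw [h.act_mul (comm_mul hg.1 hc.1) (comm_inv hg.1) ha, h.act_mul hg.1 hc.1 hb, hc.2 _ hb, hg.2 _ hσb,
    hτ _ hb hσb, ← hg.2 _ hb, h.act_inv_right hg.1 ha]

/-- An involutive action lifts to an involution. -/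
theorem exists_invol [Finite G] (h : Code K z Q cd) {σw γw : List ℕ} {bas : List ℕ}
    (hσw : Wok K σw = true) (hγw : Wok K γw = true)
    (hσ : (pts K).all (fun a => wd K σw (wd K σw a) == a && decide (wd K σw a < 2 ^ K.n)) = true)
    (hne : (pts K).any (fun a => wd K σw a != a) = true)
    (hbas : chkBas K (wd K σw) bas = true) (hlift : chkLift K (wd K σw) (wd K γw) bas = true) :
    ∃ s, h.Acts s (wd K σw) ∧ orderOf s = 2 := by
  haveI : Fact (Nat.Prime 2) := ⟨Nat.prime_two⟩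
  simp only [chkLift, Bool.and_eq_true, List.all_eq_true, Bool.or_eq_true, Bool.not_eq_true', List.any_eq_true,
    bne_iff_ne, pts, List.mem_range, beq_iff_eq] at hlift
  obtain ⟨⟨hfixl, hcomm⟩, hfun⟩ := hlift
  obtain ⟨c, hc, hca⟩ := h.exists_lift hσw
  have hcA : h.Acts c (wd K σw) := ⟨hc, hca⟩
  obtain ⟨g, hg, hga⟩ := h.exists_lift hγw
  have hgA : h.Acts g (wd K γw) := ⟨hg, hga⟩
  have hcQ := h.sq_mem hcA hσ
  set v2 := cd (c * c) with hv2
  have hv2fix : v2 ∈ fixL K (wd K σw) := mem_fixL.2 ⟨h.lt _ hcQ, by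
    rw [← hca _ (h.lt _ hcQ), hv2, h.act_cd hc hcQ]; congr 1; group⟩
  -- the class of the square is fixed by `γ`
  have hd : h.Acts (g * c * g⁻¹) (wd K σw) := hcA.conj hgA (fun a ha _ => hcomm a ha)
  have hr : c⁻¹ * (g * c * g⁻¹) ∈ Q := (h.mem_iff (comm_mul (comm_inv hc) hd.1)).2 fun a ha => by
    rw [h.act_mul (comm_inv hc) hd.1 ha, hd.2 a ha, ← hca a ha, h.act_inv_left hc ha]
  have hsqadd : ∀ r ∈ Q, c * r * (c * r) ∈ Q ∧ cd (c * r * (c * r)) = v2 ^^^ (wd K σw (cd r) ^^^ cd r) := by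
    intro r hr
    have e : c * r * (c * r) = (c * r * c⁻¹) * (c * c) * r := by group
    have h1 := h.ext.norm c hc r hr
    refine ⟨by rw [e]; exact mul_mem (mul_mem h1 hcQ) hr, ?_⟩
    rw [e, h.mul _ (mul_mem h1 hcQ) _ hr, h.mul _ h1 _ hcQ, ← h.act_cd hc hr, hca _ (h.lt r hr), ← hv2,
      Nat.xor_comm (wd K σw (cd r)) v2, Nat.xor_assoc]
  have hγv2 : wd K γw v2 = v2 ^^^ (wd K σw (cd (c⁻¹ * (g * c * g⁻¹))) ^^^ cd (c⁻¹ * (g * c * g⁻¹))) := by
    rw [← (hsqadd _ hr).2, hv2, ← hga _ (h.lt _ hcQ), h.act_cd hg hcQ]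
    congr 1; group
  obtain ⟨r0, hr0, hr0v⟩ : ∃ r, r < 2 ^ K.n ∧ wd K σw r ^^^ r = v2 := by
    rcases hfixl v2 hv2fix with hn | hy
    · exfalso
      rw [← Bool.not_eq_true, List.contains_iff_mem] at hn
      refine hn (List.mem_map.2 ⟨cd (c⁻¹ * (g * c * g⁻¹)), List.mem_range.2 (h.lt _ hr), ?_⟩)
      rw [hγv2, Nat.xor_comm v2, Nat.xor_assoc, Nat.xor_self, Nat.xor_zero]
    · rw [List.contains_iff_mem] at hy
      simpa [imL, pts] using hy
  set p := c * h.rep r0 with hp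
  have hpA : h.Acts p (wd K σw) := hcA.mul_Q (h.rep_mem r0)
  obtain ⟨hppQ, hppc⟩ := hsqadd _ (h.rep_mem r0)
  rw [h.cd_rep hr0, hr0v, Nat.xor_self] at hppc
  have hpp : p * p = 1 ∨ p * p = z := (h.ker _ hppQ).1 hppc
  have hone : ∀ s, h.Acts s (wd K σw) → s * s = 1 → orderOf s = 2 := fun s hs e => by
    rw [orderOf_eq_prime_iff, pow_two]
    exact ⟨e, fun e' => hs.not_mem hne (e' ▸ one_mem _)⟩
  rcases hpp with e | e
  · exact ⟨p, hpA, hone p hpA e⟩
  obtain ⟨T, hT, hTv⟩ := h.afun_table hpA hbas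
  obtain ⟨u, hu, huT⟩ := hfun T hT
  rw [hTv u hu] at huT
  obtain ⟨hu1, hu2⟩ := mem_fixL.1 hu
  set r := h.rep u
  refine ⟨p * r, hpA.mul_Q (h.rep_mem u), hone _ (hpA.mul_Q (h.rep_mem u)) ?_⟩
  have e1 := h.afun_spec hpA.1 (h.rep_mem u) (by rw [h.cd_rep hu1, hpA.2 u hu1, hu2])
  rw [h.cd_rep hu1] at e1
  calc p * r * (p * r) = (p * r * p⁻¹) * (p * p) * r := by group
    _ = r * z ^ h.afun p u * z * r := by rw [e1, e]
    _ = r * r * (z ^ h.afun p u * z) := by
      have hpc : (z ^ h.afun p u * z) * r = r * (z ^ h.afun p u * z) :=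
        ((Commute.pow_left (show Commute z r from (h.ext.central _ (h.rep_mem u)).symm) _).mul_left
          (show Commute z r from (h.ext.central _ (h.rep_mem u)).symm)).eq
      rw [mul_assoc r (z ^ h.afun p u), mul_assoc, hpc, ← mul_assoc]
    _ = 1 := by
      rw [h.sq _ (h.rep_mem u), h.cd_rep hu1]
      have := h.afun_le p u
      have hq1 : qn K u ≤ 1 := by unfold qn; split_ifs <;> omega
      generalize h.afun p u = A at huT this
      generalize qn K u = B at huT hq1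
      interval_cases A <;> interval_cases B <;> simp_all [h.ext.zz]

/-- Involutions with the same action are conjugate up to the centre. -/
theorem conj_or [Finite G] (h : Code K z Q cd) {γw : List ℕ} {σ : ℕ → ℕ} {bas : List ℕ}
    (hγw : Wok K γw = true) (hγw2 : Wok K (γw ++ γw) = true)
    (hbas : chkBas K σ bas = true) (hchk : chkCoset K σ (wd K γw) (wd K (γw ++ γw)) bas = true)
    {s s' : G} (hs : h.Acts s σ) (h2 : s * s = 1) (hs' : h.Acts s' σ) (h2' : s' * s' = 1) :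
    IsConj s s' ∨ IsConj (s * z) s' := by
  simp only [chkCoset, Bool.and_eq_true, List.all_eq_true, pts, List.mem_range, beq_iff_eq, Bool.or_eq_true,
    Bool.not_eq_true', bne_iff_ne, List.any_eq_true] at hchk
  obtain ⟨hcomm, hall⟩ := hchk
  obtain ⟨T, hT, hTv⟩ := h.afun_table hs hbas
  have hcoh := h.coh_of_invol hs h2 hTv
  have hsi : s⁻¹ = s := inv_eq_of_mul_eq_one_right h2
  -- the quotient of two involutions with the same action
  have hquot : ∀ t, h.Acts t σ → t * t = 1 → s⁻¹ * t ∈ Q ∧ cd (s⁻¹ * t) ∈ fixL K σ ∧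
      h.afun s (cd (s⁻¹ * t)) = qn K (cd (s⁻¹ * t)) := by
    intro t ht ht2
    have hq : s⁻¹ * t ∈ Q := (h.mem_iff (comm_mul (comm_inv hs.1) ht.1)).2 fun a ha => by
      rw [h.act_mul (comm_inv hs.1) ht.1 ha, ht.2 a ha, ← hs.2 a ha, h.act_inv_left hs.1 ha]
    have hinv : s * (s⁻¹ * t) * s⁻¹ = (s⁻¹ * t)⁻¹ := by
      rw [mul_inv_cancel_left, mul_inv_rev, inv_inv, hsi, inv_eq_of_mul_eq_one_right ht2]
    have hfix : h.act s (cd (s⁻¹ * t)) = cd (s⁻¹ * t) := by rw [h.act_cd hs.1 hq, hinv, h.cd_inv hq]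
    refine ⟨hq, mem_fixL.2 ⟨h.lt _ hq, by rw [← hs.2 _ (h.lt _ hq)]; exact hfix⟩, ?_⟩
    have e := h.afun_spec hs.1 hq hfix
    rw [hinv, h.inv_eq hq] at e
    exact (h.pow_inj (by unfold qn; split_ifs <;> omega) (h.afun_le s _) (mul_left_cancel e)).symm
  -- equal classes modulo the moved differences
  have hclose : ∀ t, h.Acts t σ → t * t = 1 → (imL K σ).contains (cd (t⁻¹ * s')) = true →
      IsConj t s' ∨ IsConj (t * z) s' := by
    intro t ht ht2 hL
    simp only [List.contains_iff_mem, imL, List.mem_map, pts, List.mem_range] at hL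
    obtain ⟨r, hr, hrv⟩ := hL
    set R := h.rep r
    have hw : t⁻¹ * R * t ∈ Q := by
      simpa using h.ext.norm t⁻¹ (comm_inv ht.1) R (h.rep_mem r)
    have hts : t⁻¹ * s' ∈ Q := (h.mem_iff (comm_mul (comm_inv ht.1) hs'.1)).2 fun a ha => by
      rw [h.act_mul (comm_inv ht.1) hs'.1 ha, hs'.2 a ha, ← ht.2 a ha, h.act_inv_left ht.1 ha]
    have hti : t⁻¹ = t := inv_eq_of_mul_eq_one_right ht2
    have hcd : cd (t⁻¹ * R * t * R⁻¹) = cd (t⁻¹ * s') := by
      rw [h.mul _ hw _ (inv_mem (h.rep_mem r)), h.cd_inv (h.rep_mem r), h.cd_rep hr]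
      rw [← hrv, ← ht.2 r hr, act, hti]
    rcases (h.cd_eq_iff (mul_mem hw (inv_mem (h.rep_mem r))) hts).1 hcd with e | e
    · refine Or.inl (isConj_iff.2 ⟨R, ?_⟩)
      calc R * t * R⁻¹ = t * (t⁻¹ * R * t * R⁻¹) := by group
        _ = t * (t⁻¹ * s') := by rw [e]
        _ = s' := by group
    · refine Or.inr (isConj_iff.2 ⟨R, ?_⟩)
      calc R * (t * z) * R⁻¹ = R * t * (R⁻¹ * z) := by
            rw [mul_assoc R, mul_assoc t, ← comm_inv (h.ext.central R (h.rep_mem r))]; group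
        _ = t * (t⁻¹ * R * t * R⁻¹ * z) := by group
        _ = t * (t⁻¹ * s') := by rw [e]
        _ = s' := by group
  obtain ⟨hq0, hv, hAv⟩ := hquot s' hs' h2'
  rcases hall T hT with hcoh' | hall'
  · rw [hcoh] at hcoh'; exact absurd hcoh' (by simp)
  rcases hall' (cd (s⁻¹ * s')) hv with (hne | hL) | ⟨g, hg, hgall⟩
  · exact absurd (by rw [hTv _ hv, hAv]) hne
  · exact hclose s hs h2 hL
  obtain ⟨w, hw, hwg⟩ : ∃ w, Wok K w = true ∧ g = wd K w := by
    rcases List.mem_cons.1 hg with rfl | hg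
    · exact ⟨γw, hγw, rfl⟩
    · rw [List.mem_singleton.1 hg]; exact ⟨γw ++ γw, hγw2, rfl⟩
  obtain ⟨c, hc, hca⟩ := h.exists_lift hw
  have hcA : h.Acts c g := ⟨hc, fun a ha => by rw [hwg]; exact hca a ha⟩
  have hgcomm : ∀ a < 2 ^ K.n, g (σ a) = σ (g a) := fun a ha => by
    rcases List.mem_cons.1 hg with rfl | hg
    · exact (hcomm a ha).1
    · rw [List.mem_singleton.1 hg]; exact (hcomm a ha).2
  set t := c * s * c⁻¹ with ht_def
  have htA : h.Acts t σ := hs.conj hcA fun a ha _ => hgcomm a ha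
  have ht2 : t * t = 1 := by rw [ht_def, conj_mul, h2, mul_one, mul_inv_cancel]
  obtain ⟨hq1, hv1, hAv1⟩ := hquot t htA ht2
  set v1 := cd (s⁻¹ * t)
  rcases hgall v1 hv1 with hbad | hgood
  · exfalso
    rw [Bool.and_eq_false_iff, beq_eq_false_iff_ne, List.all_eq_false] at hbad
    rcases hbad with hbad | ⟨u, hu, hbad⟩
    · exact hbad (by rw [hTv _ hv1, hAv1])
    · apply hbad
      obtain ⟨hu1, hu2⟩ := mem_fixL.1 hu
      have hgu : g u ∈ fixL K σ := by
        have hlt : g u < 2 ^ K.n := by rw [← hcA.2 u hu1]; exact h.act_lt hc u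
        exact mem_fixL.2 ⟨hlt, by rw [← hgcomm u hu1, hu2]⟩
      rw [beq_iff_eq, hTv _ hgu, hTv u hu]
      set R := h.rep u
      have e := h.afun_spec hs.1 (h.rep_mem u) (by rw [h.cd_rep hu1, hs.2 u hu1, hu2])
      rw [h.cd_rep hu1] at e
      set R' := c * R * c⁻¹
      have hR' : R' ∈ Q := h.ext.norm c hc R (h.rep_mem u)
      have hcdR' : cd R' = g u := by rw [← hcA.2 u hu1]; rfl
      have e1 : t * R' * t⁻¹ = R' * z ^ h.afun s u := by
        calc t * R' * t⁻¹ = c * (s * R * s⁻¹) * c⁻¹ := by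
              show t * (c * R * c⁻¹) * t⁻¹ = _
              rw [ht_def]; group
          _ = (c * R * c⁻¹) * (c * z ^ h.afun s u * c⁻¹) := by
              show c * (s * h.rep u * s⁻¹) * c⁻¹ = c * h.rep u * c⁻¹ * _
              rw [e]; group
          _ = _ := by rw [conj_zpow' hc]
      have e2 := h.afun_spec hs.1 hR' (by rw [hcdR', hs.2 _ (mem_fixL.1 hgu).1, (mem_fixL.1 hgu).2])
      rw [hcdR'] at e2
      have e3 : t * R' * t⁻¹ = R' * (z ^ h.afun s (g u) * z ^ bn K v1 (g u)) := by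
        calc t * R' * t⁻¹ = s * ((s⁻¹ * t) * R' * (s⁻¹ * t)⁻¹) * s⁻¹ := by group
          _ = s * (R' * z ^ bn K v1 (g u)) * s⁻¹ := by rw [h.conj_bq hq1 hR', hcdR']
          _ = (s * R' * s⁻¹) * (s * z ^ bn K v1 (g u) * s⁻¹) := by group
          _ = _ := by rw [e2, conj_zpow' hs.1, mul_assoc]
      have hb1 : bn K v1 (g u) ≤ 1 := by unfold bn; split_ifs <;> omega
      rw [e1, ← h.pow_xor (h.afun_le s _) hb1] at e3
      exact (h.pow_inj (h.afun_le s u) (Nat.le_of_lt_succ (Nat.xor_lt_two_pow (n := 1)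
        (Nat.lt_succ_of_le (h.afun_le s _)) (Nat.lt_succ_of_le hb1))) (mul_left_cancel e3)).symm
  · have hts' : cd (t⁻¹ * s') = cd (s⁻¹ * s') ^^^ v1 := by
      rw [show t⁻¹ * s' = (s⁻¹ * t)⁻¹ * (s⁻¹ * s') by group, h.mul _ (inv_mem hq1) _ hq0, h.cd_inv hq1,
        Nat.xor_comm]
    rcases hclose t htA ht2 (by rw [hts']; exact hgood) with e | e
    · exact Or.inl ((isConj_iff.2 ⟨c, ht_def.symm⟩).trans e)
    · refine Or.inr ((isConj_iff.2 ⟨c, ?_⟩).trans e)
      rw [ht_def]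
      calc c * (s * z) * c⁻¹ = c * s * (z * c⁻¹) := by group
        _ = _ := by rw [← comm_inv hc]; group

/-- Nonzero functional: the involution is conjugate to its product with `z`. -/
theorem conj_mul_z [Finite G] (h : Code K z Q cd) {σ : ℕ → ℕ} {bas : List ℕ}
    (hbas : chkBas K σ bas = true) (hnz : chkNZ K σ bas = true) {s : G} (hs : h.Acts s σ) (h2 : s * s = 1) :
    IsConj s (s * z) := by
  simp only [chkNZ, List.all_eq_true, Bool.or_eq_true, Bool.not_eq_true', List.any_eq_true, beq_iff_eq] at hnz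
  obtain ⟨T, hT, hTv⟩ := h.afun_table hs hbas
  rcases hnz T hT with hc | ⟨u, hu, hu1⟩
  · rw [h.coh_of_invol hs h2 hTv] at hc; exact absurd hc (by simp)
  rw [hTv u hu] at hu1
  obtain ⟨hlt, hfix⟩ := mem_fixL.1 hu
  have e := h.afun_spec hs.1 (h.rep_mem u) (by rw [h.cd_rep hlt, hs.2 u hlt, hfix])
  rw [h.cd_rep hlt, hu1, pow_one] at e
  set R := h.rep u
  refine isConj_iff.2 ⟨R, ?_⟩
  have hz : R * z = z * R := h.ext.central R (h.rep_mem u)
  calc R * s * R⁻¹ = s * (s⁻¹ * R * s * R⁻¹) := by group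
    _ = s * (s * R * s⁻¹ * R⁻¹) := by rw [inv_eq_of_mul_eq_one_right h2]
    _ = s * (R * z * R⁻¹) := by rw [e]
    _ = s * z := by rw [hz, mul_inv_cancel_right]

/-- A lower bound for the centralizer in `Q`. -/
theorem card_cent [Finite G] (h : Code K z Q cd) {σ : ℕ → ℕ} {bas : List ℕ}
    (hbas : chkBas K σ bas = true) (hker : chkKer K σ bas = true) {s : G} (hs : h.Acts s σ) (h2 : s * s = 1) :
    16 ≤ Nat.card (Q ⊓ Subgroup.centralizer ({s} : Set G) : Subgroup G) := by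
  classical
  simp only [chkKer, List.all_eq_true, Bool.or_eq_true, Bool.not_eq_true', decide_eq_true_eq] at hker
  obtain ⟨T, hT, hTv⟩ := h.afun_table hs hbas
  rcases hker T hT with hc | hlen
  · rw [h.coh_of_invol hs h2 hTv] at hc; exact absurd hc (by simp)
  set U := (fixL K σ).filter fun u => T.getD u 0 == 0
  have hUn : U.Nodup := (List.nodup_range.filter _).filter _
  have hU : ∀ u ∈ U, u < 2 ^ K.n ∧ σ u = u ∧ h.afun s u = 0 := fun u hu => by
    obtain ⟨h1, h2⟩ := List.mem_filter.1 hu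
    exact ⟨(mem_fixL.1 h1).1, (mem_fixL.1 h1).2, by rw [← hTv u h1]; simpa using h2⟩
  let f : {u // u ∈ U.toFinset} × Fin 2 → (Q ⊓ Subgroup.centralizer ({s} : Set G) : Subgroup G) := fun p =>
    ⟨h.rep p.1.1 * z ^ p.2.1, mul_mem (h.rep_mem _) (pow_mem h.ext.mem _), by
      obtain ⟨h1, h3, h4⟩ := hU _ (List.mem_toFinset.1 p.1.2)
      refine Subgroup.mem_centralizer_singleton_iff.2 ?_
      have e := h.afun_spec hs.1 (h.rep_mem p.1.1) (by rw [h.cd_rep h1, hs.2 _ h1, h3])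
      rw [h.cd_rep h1, h4, pow_zero, mul_one, mul_inv_eq_iff_eq_mul] at e
      exact ((Commute.mul_left (show Commute (h.rep p.1.1) s from e.symm)
        ((show Commute z s from hs.1.symm).pow_left p.2.1))).eq⟩
  have hf : Function.Injective f := fun p q e => by
    have e' : h.rep p.1.1 * z ^ p.2.1 = h.rep q.1.1 * z ^ q.2.1 := congrArg Subtype.val e
    have e1 := congrArg cd e'
    rw [h.mul _ (h.rep_mem _) _ (pow_mem h.ext.mem _), h.mul _ (h.rep_mem _) _ (pow_mem h.ext.mem _),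
      h.cd_zpow, h.cd_zpow, Nat.xor_zero, Nat.xor_zero, h.cd_rep (hU _ (List.mem_toFinset.1 p.1.2)).1,
      h.cd_rep (hU _ (List.mem_toFinset.1 q.1.2)).1] at e1
    rw [e1] at e'
    exact Prod.ext (Subtype.ext e1) (Fin.ext (h.pow_inj (by omega) (by omega) (mul_left_cancel e')))
  have := Nat.card_le_card_of_injective f hf
  rw [Nat.card_prod, Nat.card_eq_fintype_card, Fintype.card_coe, List.toFinset_card_of_nodup hUn, Nat.card_fin] at this
  omega

end Code

end Cfsg.Agent.Invol.Big
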