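import Mathlib
import Cfsg.Agent.Lib.Classical.BinaryCocycle

/-!
# Linear maps on a small binary quadratic space, as tables
-/

set_option autoImplicit false
set_option linter.unusedSectionVars false

namespace Cfsg.Agent.Invol.Big

open Cfsg.Agent.Classical.BinCoc

/-- A bare form: only the size and the values matter. -/
def bare (n : ℕ) (q : ℕ → Bool) : Cert := ⟨n, q, 0, [], [], [], [], [], []⟩

variable (K : Cert)

/-- The vectors. -/
def pts : List ℕ := List.range (2 ^ K.n)

/-- The table of a map. -/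
def tab (f : ℕ → ℕ) : List ℕ := (pts K).map f

/-- A product of reflections. -/
def wd (w : List ℕ) (u : ℕ) : ℕ := w.foldr (tr K) u

/-- An even word in nonsingular vectors, inverted by its reversal. -/
def Wok (w : List ℕ) : Bool :=
  w.all (fun a => K.q a && decide (a < 2 ^ K.n)) && (w.length % 2 == 0) &&
    (pts K).all fun a => wd K w.reverse (wd K w a) == a && wd K w (wd K w.reverse a) == a && decide (wd K w a < 2 ^ K.n)

/-- The value of the form as a number. -/
def qn (a : ℕ) : ℕ := if K.q a then 1 else 0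

/-- The value of the polar form as a number. -/
def bn (a b : ℕ) : ℕ := if bq K a b then 1 else 0

/-- The span of pairs. -/
def span' (gs : List (ℕ × ℕ)) : List (ℕ × ℕ) :=
  gs.foldl (fun s p => s ++ s.map (fun x => (x.1 ^^^ p.1, x.2 ^^^ p.2))) [(0, 0)]

/-- The span of vectors. -/
def sp (gs : List ℕ) : List ℕ := gs.foldl (fun s p => s ++ s.map (fun x => x ^^^ p)) [0]

/-- All choices of images. -/
def tuples : List (ℕ × List ℕ) → List (List (ℕ × ℕ))
  | [] => [[]]
  | (g, cs) :: t => (tuples t).flatMap fun l => cs.map fun c => (g, c) :: l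

/-- The map defined by images of generators. -/
def mkTab (l : List (ℕ × ℕ)) : List ℕ :=
  let s := span' l
  (pts K).map fun x => ((s.find? (fun p => p.1 == x)).map Prod.snd).getD 0

/-- The pairs respect the form. -/
def okT (l : List (ℕ × ℕ)) : Bool :=
  l.all fun p => (K.q p.2 == K.q p.1) && l.all fun r => bq K p.2 r.2 == bq K p.1 r.1

/-- All isometries with given candidate images. -/
def maps (gens : List (ℕ × List ℕ)) : List (List ℕ) := ((tuples gens).filter (okT K)).map (mkTab K)

/-- All linear functionals with values `0` and `1` on the span of `bas`, as tables. -/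
def funcs (bas : List ℕ) : List (List ℕ) :=
  (tuples (bas.map fun b => (b, [0, 1]))).map (mkTab K)

theorem mem_tuples : ∀ (gens : List (ℕ × List ℕ)) (f : ℕ → ℕ), (∀ p ∈ gens, f p.1 ∈ p.2) →
    (gens.map fun p => (p.1, f p.1)) ∈ tuples gens
  | [], _, _ => by simp [tuples]
  | (g, cs) :: t, f, h => by
    simp only [tuples, List.map_cons, List.mem_flatMap, List.mem_map]
    exact ⟨_, mem_tuples t f fun p hp => h p (List.mem_cons_of_mem _ hp), f g, h (g, cs) (List.mem_cons_self ..), rfl⟩

theorem span'_fst : ∀ (l : List (ℕ × ℕ)), (span' l).map Prod.fst = sp (l.map Prod.fst) := by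
  intro l
  suffices ∀ (l : List (ℕ × ℕ)) (s : List (ℕ × ℕ)),
      ((l.foldl (fun s p => s ++ s.map (fun x => (x.1 ^^^ p.1, x.2 ^^^ p.2))) s).map Prod.fst) =
        (l.map Prod.fst).foldl (fun s p => s ++ s.map (fun x => x ^^^ p)) (s.map Prod.fst) from this l _
  intro l
  induction l with
  | nil => intro s; rfl
  | cons a l ih =>
    intro s
    simp only [List.foldl_cons, List.map_cons]
    rw [ih]
    congr 1
    simp [List.map_append, List.map_map, Function.comp_def]

theorem span'_snd (f : ℕ → ℕ) (n : ℕ) (hf : ∀ a b, a < 2 ^ n → b < 2 ^ n → f (a ^^^ b) = f a ^^^ f b)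
    (l : List (ℕ × ℕ)) (hl : ∀ p ∈ l, p.1 < 2 ^ n ∧ p.2 = f p.1) :
    ∀ p ∈ span' l, p.1 < 2 ^ n ∧ p.2 = f p.1 := by
  have h00 : f 0 = 0 := by
    have := hf 0 0 (Nat.two_pow_pos _) (Nat.two_pow_pos _)
    simpa using this
  suffices ∀ (l : List (ℕ × ℕ)) (s : List (ℕ × ℕ)), (∀ p ∈ l, p.1 < 2 ^ n ∧ p.2 = f p.1) →
      (∀ p ∈ s, p.1 < 2 ^ n ∧ p.2 = f p.1) →
      ∀ p ∈ l.foldl (fun s p => s ++ s.map (fun x => (x.1 ^^^ p.1, x.2 ^^^ p.2))) s, p.1 < 2 ^ n ∧ p.2 = f p.1 from
    this l _ hl fun p hp => by rw [List.mem_singleton.1 hp]; exact ⟨Nat.two_pow_pos _, h00.symm⟩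
  intro l
  induction l with
  | nil => exact fun s _ hs => hs
  | cons a l ih =>
    intro s hl hs
    refine ih _ (fun p hp => hl p (List.mem_cons_of_mem _ hp)) fun p hp => ?_
    rcases List.mem_append.1 hp with hp | hp
    · exact hs p hp
    · obtain ⟨x, hx, rfl⟩ := List.mem_map.1 hp
      obtain ⟨h1, h2⟩ := hs x hx
      obtain ⟨h3, h4⟩ := hl a (List.mem_cons_self ..)
      exact ⟨Nat.xor_lt_two_pow h1 h3, by rw [h2, h4, hf _ _ h1 h3]⟩

/-- The generators reach every vector. -/
def covers (gens : List ℕ) : Bool := (pts K).all fun x => (sp gens).contains x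

theorem mkTab_eq (f : ℕ → ℕ) (hf : ∀ a b, a < 2 ^ K.n → b < 2 ^ K.n → f (a ^^^ b) = f a ^^^ f b)
    (gs : List ℕ) (hgs : ∀ g ∈ gs, g < 2 ^ K.n) {x : ℕ} (hx : x < 2 ^ K.n) (hs : x ∈ sp gs) :
    (mkTab K (gs.map fun g => (g, f g))).getD x 0 = f x := by
  have hmap : (mkTab K (gs.map fun g => (g, f g))).getD x 0 =
      (((span' (gs.map fun g => (g, f g))).find? (fun p => p.1 == x)).map Prod.snd).getD 0 := by
    simp [mkTab, pts, List.getD_eq_getElem, hx]
  rw [hmap]
  rw [show gs = (gs.map fun g => (g, f g)).map Prod.fst by simp [List.map_map, Function.comp_def], ← span'_fst] at hs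
  obtain ⟨p, hp, hpx⟩ := List.mem_map.1 hs
  cases hfind : (span' (gs.map fun g => (g, f g))).find? (fun p => p.1 == x) with
  | none => exact absurd (by simpa using hpx) (by simpa using List.find?_eq_none.1 hfind p hp)
  | some r =>
    have h1 := span'_snd f K.n hf (gs.map fun g => (g, f g)) (fun q hq => by
      obtain ⟨g, hg, rfl⟩ := List.mem_map.1 hq
      exact ⟨hgs g hg, rfl⟩) r (List.mem_of_find?_eq_some hfind)
    have h2 : r.1 = x := by simpa using List.find?_some hfind
    simp [h1.2, h2]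

theorem mem_maps (gens : List (ℕ × List ℕ)) (f : ℕ → ℕ)
    (hf : ∀ a b, a < 2 ^ K.n → b < 2 ^ K.n → f (a ^^^ b) = f a ^^^ f b)
    (hq : ∀ a, a < 2 ^ K.n → K.q (f a) = K.q a) (hcov : covers K (gens.map Prod.fst) = true)
    (hlt : ∀ p ∈ gens, p.1 < 2 ^ K.n) (hc : ∀ p ∈ gens, f p.1 ∈ p.2) : tab K f ∈ maps K gens := by
  refine List.mem_map.2 ⟨gens.map fun p => (p.1, f p.1), List.mem_filter.2 ⟨mem_tuples gens f hc, ?_⟩, ?_⟩
  · simp only [okT, List.all_eq_true, Bool.and_eq_true, List.mem_map, beq_iff_eq]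
    rintro _ ⟨p, hp, rfl⟩
    refine ⟨hq _ (hlt p hp), ?_⟩
    rintro _ ⟨r, hr, rfl⟩
    dsimp only [bq]
    rw [← hf _ _ (hlt p hp) (hlt r hr), hq _ (hlt p hp), hq _ (hlt r hr),
      hq _ (Nat.xor_lt_two_pow (hlt p hp) (hlt r hr))]
  · simp only [covers, List.all_eq_true, List.contains_iff_mem, pts, List.mem_range] at hcov
    refine List.ext_getElem (by simp [mkTab, tab, pts]) fun i h1 h2 => ?_
    have hi : i < 2 ^ K.n := by simpa [tab, pts] using h2
    have := mkTab_eq K f hf (gens.map Prod.fst) (fun g hg => by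
      obtain ⟨p, hp, rfl⟩ := List.mem_map.1 hg; exact hlt p hp) hi (hcov i hi)
    rw [List.map_map, Function.comp_def, List.getD_eq_getElem _ _ h1] at this
    rw [this]
    simp [tab, pts]

/-- Every additive functional appears among `funcs`. -/
theorem mem_funcs (A : ℕ → ℕ) (bas : List ℕ) (hb : ∀ b ∈ bas, b < 2 ^ K.n) (F : ℕ → Prop)
    (hF : ∀ b ∈ bas, F b) (hA : ∀ b ∈ bas, A b ≤ 1)
    (hadd : ∀ a b, F a → F b → F (a ^^^ b) ∧ A (a ^^^ b) = A a ^^^ A b) (h0 : F 0 ∧ A 0 = 0) :
    ∃ T ∈ funcs K bas, ∀ x, x < 2 ^ K.n → x ∈ sp bas → T.getD x 0 = A x := by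
  classical
  refine ⟨_, List.mem_map.2 ⟨bas.map fun b => (b, A b), ?_, rfl⟩, fun x hx hxs => ?_⟩
  · have := mem_tuples (bas.map fun b => (b, [0, 1])) A (fun p hp => by
      obtain ⟨b, hb', rfl⟩ := List.mem_map.1 hp
      have := hA b hb'
      simp; omega)
    simpa [List.map_map, Function.comp_def] using this
  · -- the span of `bas` lies in `F`
    have key : ∀ (l : List ℕ) (s : List (ℕ × ℕ)), (∀ b ∈ l, F b) → (∀ p ∈ s, F p.1 ∧ p.2 = A p.1) →
        ∀ p ∈ (l.map fun b => (b, A b)).foldl (fun s p => s ++ s.map (fun x => (x.1 ^^^ p.1, x.2 ^^^ p.2))) s,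
          F p.1 ∧ p.2 = A p.1 := by
      intro l
      induction l with
      | nil => exact fun s _ hs => hs
      | cons a l ih =>
        intro s hl hs
        refine ih _ (fun b hb => hl b (List.mem_cons_of_mem _ hb)) fun p hp => ?_
        rcases List.mem_append.1 hp with hp | hp
        · exact hs p hp
        · obtain ⟨y, hy, rfl⟩ := List.mem_map.1 hp
          obtain ⟨h1, h2⟩ := hs y hy
          obtain ⟨h3, h4⟩ := hadd _ _ h1 (hl a (List.mem_cons_self ..))
          exact ⟨h3, by dsimp only; rw [h2, h4]⟩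
    have hmap : (mkTab K (bas.map fun g => (g, A g))).getD x 0 =
        (((span' (bas.map fun g => (g, A g))).find? (fun p => p.1 == x)).map Prod.snd).getD 0 := by
      simp [mkTab, pts, List.getD_eq_getElem, hx]
    rw [hmap]
    rw [show bas = (bas.map fun g => (g, A g)).map Prod.fst by simp [List.map_map, Function.comp_def], ← span'_fst] at hxs
    obtain ⟨p, hp, hpx⟩ := List.mem_map.1 hxs
    cases hfind : (span' (bas.map fun g => (g, A g))).find? (fun p => p.1 == x) with
    | none => exact absurd (by simpa using hpx) (by simpa using List.find?_eq_none.1 hfind p hp)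
    | some r =>
      have h1 := key bas [(0, 0)] hF (fun q hq => by rw [List.mem_singleton.1 hq]; exact ⟨h0.1, h0.2.symm⟩) r
        (List.mem_of_find?_eq_some hfind)
      have h2 : r.1 = x := by simpa using List.find?_some hfind
      simp [h1.2, h2]

theorem wd_append (u v : List ℕ) (a : ℕ) : wd K (u ++ v) a = wd K u (wd K v a) := by simp [wd]

theorem tab_eq_iff {f g : ℕ → ℕ} : tab K f = tab K g ↔ ∀ a < 2 ^ K.n, f a = g a := by
  simp [tab, pts, List.map_inj_left]

theorem tab_getD {f : ℕ → ℕ} {a : ℕ} (ha : a < 2 ^ K.n) : (tab K f).getD a 0 = f a := by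
  simp [tab, pts, List.getD_eq_getElem, ha]

end Cfsg.Agent.Invol.Big
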