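import Cfsg.Agent.Lib.Invol.Big.Pair

/-!
# An involution class that does not meet the class of the centre
-/

set_option autoImplicit false
set_option linter.unusedSectionVars false

namespace Cfsg.Agent.Invol.Big

open Cfsg.Agent.Classical.BinCoc Cfsg.Agent.Spor.ExtraPair

/-- Data for the exclusion. -/
structure ExclData where
  sw : List ℕ
  bas : List ℕ
  v1 : ℕ
  hyp : List ℕ
  f : ℕ
  star : List (List ℕ)
  pairs : List (List ℕ)

/-- A conjugate action. -/
def cj (K : Cert) (σ : ℕ → ℕ) (k : List ℕ) (a : ℕ) : ℕ := wd K k (σ (wd K k.reverse a))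

/-- A product of conjugate actions. -/
def cjs (K : Cert) (σ : ℕ → ℕ) (l : List (List ℕ)) (a : ℕ) : ℕ := l.foldr (fun k b => cj K σ k b) a

/-- The isometries acting trivially on the hyperplane of `v1` modulo `v1` come from the star. -/
def chkStar (K : Cert) (E : ExclData) : Bool :=
  decide (E.f < 2 ^ K.n) && E.hyp.all (fun u => decide (u < 2 ^ K.n) && !bq K E.v1 u) &&
  E.star.all (fun k => Wok K k && wd K k E.v1 == E.v1) &&
  covers K (E.hyp ++ [E.f]) &&
  (maps K ((E.hyp.map fun u => (u, [u, u ^^^ E.v1])) ++ [(E.f, (pts K).filter fun b => K.q b == K.q E.f)])).all fun T =>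
    (E.star.sublists).any fun l => T == tab K (cjs K (wd K E.sw) l)

/-- Products of two members of the star are conjugate to `σ`. -/
def chkStarPair (K : Cert) (E : ExclData) : Bool :=
  E.pairs.all (fun k => Wok K k && wd K k E.v1 == E.v1) &&
  (List.range E.star.length).all fun i => (List.range E.star.length).all fun j =>
    !(decide (i < j)) || E.pairs.any fun k => (pts K).all fun a =>
      cj K (wd K E.sw) (E.star.getD i []) (cj K (wd K E.sw) (E.star.getD j []) a) == cj K (wd K E.sw) k a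

/-- `v1` is the only singular vector that can be the centre. -/
def chkV1 (K : Cert) (E : ExclData) : Bool :=
  (pts K).all fun v => v == 0 || K.q v || v == E.v1 ||
    (pts K).any fun u => !bq K v u && wd K E.sw u ^^^ u != 0 && wd K E.sw u ^^^ u != v

/-- A basis chosen greedily. -/
def greedy (l : List ℕ) : List ℕ := l.foldl (fun b v => if (sp b).contains v then b else b ++ [v]) []

/-- The kernel of a functional. -/
def kerL (K : Cert) (σ : ℕ → ℕ) (A : List ℕ) : List ℕ := (fixL K σ).filter fun u => A.getD u 0 == 0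

/-- Generators with candidate images for the isometries fixing a kernel. -/
def gensN (K : Cert) (σ : ℕ → ℕ) (A : List ℕ) : List (ℕ × List ℕ) :=
  let U := greedy (kerL K σ A)
  (greedy (U ++ (List.range K.n).map (2 ^ ·))).map fun g =>
    (g, if U.contains g then [g] else (pts K).filter fun b => K.q b == K.q g && U.all fun u => bq K u b == bq K u g)

/-- Fewer than sixteen isometries commute with `σ` and fix a kernel. -/
def chkN (K : Cert) (σ : ℕ → ℕ) (bas : List ℕ) : Bool :=
  (funcs K bas).all fun A => !(coh K σ A) ||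
    ((greedy (kerL K σ A)).all (fun u => (kerL K σ A).contains u) &&
      ((gensN K σ A).map Prod.fst).all (fun g => decide (g < 2 ^ K.n)) &&
      covers K ((gensN K σ A).map Prod.fst) &&
      decide (((maps K (gensN K σ A)).filter fun T =>
        (pts K).all (fun a => T.getD (σ a) 0 == σ (T.getD a 0)) &&
          (kerL K σ A).all fun u => T.getD u 0 == u).length < 16))

namespace Code

variable {G : Type*} [Group G] [Finite G] {K : Cert} {z : G} {Q : Subgroup G} {cd : G → ℕ} {D : PairData}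

theorem cjs_lt {K : Cert} {σ : ℕ → ℕ} {l : List (List ℕ)} (hl : ∀ k ∈ l, Wok K k = true)
    (hσ : ∀ a < 2 ^ K.n, σ a < 2 ^ K.n) {a : ℕ} (ha : a < 2 ^ K.n) : cjs K σ l a < 2 ^ K.n := by
  induction l with
  | nil => exact ha
  | cons k l ih =>
    have h1 := hl k (List.mem_cons_self ..)
    simp only [Wok, Bool.and_eq_true, List.all_eq_true, pts, List.mem_range, decide_eq_true_eq] at h1
    have hb := ih fun k' hk' => hl k' (List.mem_cons_of_mem _ hk')
    simp only [cjs, List.foldr_cons] at hb ⊢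
    refine (h1.2 _ (hσ _ ?_)).2
    generalize List.foldr (fun k b => cj K σ k b) a l = b at hb
    have hrev : wd K k.reverse b < 2 ^ K.n := by
      clear ih
      have hlt : ∀ w : List ℕ, (∀ x ∈ w, x < 2 ^ K.n) → wd K w b < 2 ^ K.n := by
        intro w
        induction w with
        | nil => exact fun _ => hb
        | cons x w ihw =>
          intro hw
          show tr K x (wd K w b) < _
          unfold tr
          have := ihw fun y hy => hw y (List.mem_cons_of_mem _ hy)
          split_ifs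
          · exact Nat.xor_lt_two_pow this (hw x (List.mem_cons_self ..))
          · exact this
      exact hlt _ fun x hx => (h1.1.1 x (List.mem_reverse.1 hx)).2
    exact hrev

theorem both_closure (h : Code K z Q cd) (hD : chkPair K D = true) {g x : G}
    (hg : g * z * g⁻¹ ∈ Q) (hne : g * z * g⁻¹ ≠ z) (hx : x ∈ Q) (hx' : x ∈ Qc Q g) :
    x ∈ Subgroup.closure ({z, g * z * g⁻¹} : Set G) := by
  have hz : z ∈ Subgroup.closure ({z, g * z * g⁻¹} : Set G) := Subgroup.subset_closure (by simp)
  have ht : g * z * g⁻¹ ∈ Subgroup.closure ({z, g * z * g⁻¹} : Set G) := Subgroup.subset_closure (by simp)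
  rcases h.dcases hD hg hne hx hx' with e | e
  · rcases (h.ker x hx).1 e with rfl | rfl
    · exact one_mem _
    · exact hz
  · rcases (h.cd_eq_iff hg hx).1 e.symm with e' | e' <;> rw [e']
    · exact ht
    · exact mul_mem ht hz

/-- No involution of `Qc g` centralizing `z` acts as `σ`. -/
theorem noC (h : Code K z Q cd) (h8 : 8 < Nat.card Q) (hD : chkPair K D = true) {E : ExclData}
    (hsw : Wok K E.sw = true) (hne : (pts K).any (fun a => wd K E.sw a != a) = true)
    (hst : chkStar K E = true) (hsp : chkStarPair K E = true) (hv : chkV1 K E = true)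
    {g y : G} (hg : g * z * g⁻¹ ∈ Q) (hgne : g * z * g⁻¹ ≠ z) (hy : y ∈ Qc Q g) (hy2 : y * y = 1)
    (hyA : h.Acts y (wd K E.sw)) : False := by
  classical
  simp only [chkStar, Bool.and_eq_true, List.all_eq_true, decide_eq_true_eq, Bool.not_eq_true', List.any_eq_true,
    beq_iff_eq] at hst
  obtain ⟨⟨⟨⟨hf, hhyp⟩, hstar⟩, hcov⟩, hmaps⟩ := hst
  simp only [chkStarPair, Bool.and_eq_true, List.all_eq_true, List.mem_range, Bool.or_eq_true, Bool.not_eq_true',
    decide_eq_false_iff_not, List.any_eq_true, pts, beq_iff_eq] at hsp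
  obtain ⟨hpw, hpairs⟩ := hsp
  have hσlt : ∀ a < 2 ^ K.n, wd K E.sw a < 2 ^ K.n := fun a ha => by
    rw [← hyA.2 a ha]; exact h.act_lt hyA.1 a
  set t := g * z * g⁻¹ with htdef
  have ht := h.nonCentral_conj hg hgne
  have hQcc : ∀ p ∈ Qc Q g, p * t = t * p := (h.extc g).central
  let P : Subgroup G := Qc Q g ⊓ Subgroup.centralizer ({z} : Set G)
  have hPz : ∀ p ∈ P, p * z = z * p := fun p hp => Subgroup.mem_centralizer_singleton_iff.1 hp.2
  have hzP : z ∈ P := ⟨h.symm h8 hg, Subgroup.mem_centralizer_singleton_iff.2 rfl⟩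
  -- elements of `P` act trivially on the hyperplane modulo the code of `t`
  have hprop : ∀ p ∈ P, ∀ u < 2 ^ K.n, bq K (cd t) u = false →
      h.act p u = u ∨ h.act p u = u ^^^ cd t := by
    intro p hp u hu hbu
    set x := h.rep u
    have hxQ : x ∈ Q := h.rep_mem u
    have hxt : x * t = t * x := ((h.commute_iff hg hxQ).2 (by rw [h.cd_rep hu]; exact hbu)).symm
    have he1 : p * x * p⁻¹ * x⁻¹ ∈ Q := mul_mem (h.ext.norm p (hPz p hp) x hxQ) (inv_mem hxQ)
    have he2 : p * x * p⁻¹ * x⁻¹ ∈ Qc Q g := by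
      rw [show p * x * p⁻¹ * x⁻¹ = p * (x * p⁻¹ * x⁻¹) by group]
      exact mul_mem hp.1 ((h.extc g).norm x hxt _ (inv_mem hp.1))
    have hcd : cd (p * x * p⁻¹ * x⁻¹) = h.act p u ^^^ u := by
      rw [h.mul _ (h.ext.norm p (hPz p hp) x hxQ) _ (inv_mem hxQ), h.cd_inv hxQ, h.cd_rep hu]; rfl
    rcases h.dcases hD hg hgne he1 he2 with e | e
    · left; rw [hcd, Nat.xor_eq_zero_iff] at e; exact e
    · right
      rw [hcd] at e
      rw [htdef, ← e, ← Nat.xor_assoc, Nat.xor_comm u, Nat.xor_assoc, Nat.xor_self, Nat.xor_zero]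
  -- the code of `t`
  have hv1 : cd t = E.v1 := by
    simp only [chkV1, List.all_eq_true, Bool.or_eq_true, beq_iff_eq, List.any_eq_true, Bool.and_eq_true,
      Bool.not_eq_true', bne_iff_ne, pts, List.mem_range] at hv
    obtain ⟨h0, hq⟩ := ht.cd_spec h
    rcases hv (cd t) (h.lt t hg) with ((e | e) | e) | ⟨u, hu, ⟨hb, h1⟩, h2⟩
    · exact absurd e h0
    · rw [hq] at e; exact absurd e (by simp)
    · exact e
    · exfalso
      rcases hprop y ⟨hy, Subgroup.mem_centralizer_singleton_iff.2 hyA.1⟩ u hu hb with e | e <;>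
        rw [hyA.2 u hu] at e
      · exact h1 (by rw [e, Nat.xor_self])
      · exact h2 (by rw [e, Nat.xor_comm u, Nat.xor_assoc, Nat.xor_self, Nat.xor_zero])
  -- conjugates of `y` fixing `t`
  have hconj : ∀ k, Wok K k = true → wd K k E.v1 = E.v1 →
      ∃ y', y' ∈ P ∧ y' * y' = 1 ∧ h.Acts y' (cj K (wd K E.sw) k) := by
    intro k hk hfix
    obtain ⟨c, hc, hct⟩ := h.stab_lift hD ht hk (by rw [hv1]; exact hfix)
    refine ⟨c * y * c⁻¹, ⟨(h.extc g).norm c (mul_inv_eq_iff_eq_mul.1 hct) y hy,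
      Subgroup.mem_centralizer_singleton_iff.2 (comm_mul (comm_mul hc.1 hyA.1) (comm_inv hc.1))⟩,
      by rw [conj_mul, hy2, mul_one, mul_inv_cancel], comm_mul (comm_mul hc.1 hyA.1) (comm_inv hc.1), fun a ha => ?_⟩
    have hb := h.act_lt (comm_inv hc.1) a
    rw [h.act_mul (comm_mul hc.1 hyA.1) (comm_inv hc.1) ha, h.act_mul hc.1 hyA.1 hb, hyA.2 _ hb,
      hc.2 _ (hσlt _ hb), h.act_inv_word hk hc.1 hc.2 ha]
    rfl
  choose! ys hysP hys2 hysA using hconj
  let ymap : List ℕ → G := fun k => if Wok K k = true ∧ wd K k E.v1 = E.v1 then ys k else 1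
  have hym : ∀ k ∈ E.star, ymap k ∈ P ∧ ymap k * ymap k = 1 ∧ h.Acts (ymap k) (cj K (wd K E.sw) k) := by
    intro k hk
    obtain ⟨h1, h2⟩ := hstar k hk
    simp only [ymap, if_pos (And.intro h1 h2)]
    exact ⟨hysP k h1 h2, hys2 k h1 h2, hysA k h1 h2⟩
  -- members of the star commute
  set S : Set G := (ymap '' {k | k ∈ E.star}) ∪ {z, t}
  have hSP : ∀ d ∈ Subgroup.closure ({z, t} : Set G), ∀ p ∈ P, d * p = p * d := by
    intro d hd p hp
    have : Subgroup.closure ({z, t} : Set G) ≤ Subgroup.centralizer ({p} : Set G) := by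
      rw [Subgroup.closure_le]
      rintro _ (rfl | rfl)
      · exact Subgroup.mem_centralizer_singleton_iff.2 (hPz p hp).symm
      · exact Subgroup.mem_centralizer_singleton_iff.2 (hQcc p hp.1).symm
    exact Subgroup.mem_centralizer_singleton_iff.1 (this hd)
  have hpc : ∀ i < E.star.length, ∀ j < E.star.length, i < j →
      ymap (E.star.getD i []) * ymap (E.star.getD j []) = ymap (E.star.getD j []) * ymap (E.star.getD i []) := by
    intro i hi j hj hij
    rcases hpairs i hi j hj with h' | ⟨k, hk, hkk⟩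
    · exact absurd hij h'
    obtain ⟨ha1, ha2, ha3⟩ := hym _ (List.getD_eq_getElem E.star [] hi ▸ List.getElem_mem hi)
    obtain ⟨hb1, hb2, hb3⟩ := hym _ (List.getD_eq_getElem E.star [] hj ▸ List.getElem_mem hj)
    set a := ymap (E.star.getD i [])
    set b := ymap (E.star.getD j [])
    obtain ⟨h1, h2⟩ := hpw k hk
    have hcP := hysP k h1 h2
    have hc2 := hys2 k h1 h2
    have hcA := hysA k h1 h2
    set c := ys k
    have hab : a * b ∈ P := mul_mem ha1 hb1
    have hd : c⁻¹ * (a * b) ∈ Q := (h.mem_iff (comm_mul (comm_inv hcA.1) (hPz _ hab))).2 fun u hu => by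
      rw [h.act_mul (comm_inv hcA.1) (hPz _ hab) hu, h.act_mul ha3.1 hb3.1 hu, hb3.2 u hu,
        ha3.2 _ (by rw [← hb3.2 u hu]; exact h.act_lt hb3.1 u), hkk u hu, ← hcA.2 u hu, h.act_inv_left hcA.1 hu]
    have hdP : c⁻¹ * (a * b) ∈ P := mul_mem (inv_mem hcP) hab
    have hdc := hSP _ (h.both_closure hD hg hgne hd hdP.1) c hcP
    have hd2 := h.sq_of_both hgne hd hdP.1
    have hsq : a * b * (a * b) = 1 := by
      calc a * b * (a * b) = c * (c⁻¹ * (a * b) * c) * (c⁻¹ * (a * b)) := by group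
        _ = c * (c * (c⁻¹ * (a * b))) * (c⁻¹ * (a * b)) := by rw [hdc]
        _ = (c * c) * (c⁻¹ * (a * b) * (c⁻¹ * (a * b))) := by group
        _ = 1 := by rw [hc2, hd2, one_mul]
    calc a * b = (a * b)⁻¹ := eq_inv_of_mul_eq_one_left hsq
      _ = b * a := by rw [mul_inv_rev, inv_eq_of_mul_eq_one_right ha2, inv_eq_of_mul_eq_one_right hb2]
  have hSc : S ⊆ Subgroup.centralizer S := by
    rintro x hx
    refine Subgroup.mem_centralizer_iff.2 fun w hw => ?_
    have hmem : ∀ x ∈ ({z, t} : Set G), ∀ w ∈ S, w * x = x * w := by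
      intro x hx w hw
      have hxc : x ∈ Subgroup.closure ({z, t} : Set G) := Subgroup.subset_closure hx
      rcases hw with ⟨k, hk, rfl⟩ | hw
      · exact (hSP x hxc _ (hym k hk).1).symm
      · refine (hSP x hxc w ?_).symm
        rcases hw with rfl | rfl
        · exact hzP
        · exact ⟨(h.extc g).mem, Subgroup.mem_centralizer_singleton_iff.2 (h.ext.central t hg)⟩
    rcases hx with ⟨k, hk, rfl⟩ | hx
    · rcases hw with ⟨l, hl, rfl⟩ | hw
      · obtain ⟨i, hi, rfl⟩ := List.getElem_of_mem hk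
        obtain ⟨j, hj, rfl⟩ := List.getElem_of_mem hl
        rcases lt_trichotomy i j with hij | rfl | hij
        · have := hpc i hi j hj hij
          rw [List.getD_eq_getElem _ _ hi, List.getD_eq_getElem _ _ hj] at this
          exact this.symm
        · rfl
        · have := hpc j hj i hi hij
          rw [List.getD_eq_getElem _ _ hi, List.getD_eq_getElem _ _ hj] at this
          exact this
      · exact (hmem w hw _ (Or.inl ⟨k, hk, rfl⟩)).symm
    · exact hmem x hx w hw
  have hPS : ∀ p ∈ P, p ∈ Subgroup.closure S := by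
    intro p hp
    have hpz := hPz p hp
    have hmem : tab K (h.act p) ∈ maps K ((E.hyp.map fun u => (u, [u, u ^^^ E.v1])) ++
        [(E.f, (pts K).filter fun b => K.q b == K.q E.f)]) := by
      refine mem_maps K _ _ (fun a b => h.act_xor hpz) (fun a => h.act_q hpz) ?_ ?_ ?_
      · simpa [List.map_map, Function.comp_def] using hcov
      · intro q hq
        rcases List.mem_append.1 hq with hq | hq
        · obtain ⟨u, hu, rfl⟩ := List.mem_map.1 hq
          exact (hhyp u hu).1
        · rw [List.mem_singleton.1 hq]; exact hf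
      · intro q hq
        rcases List.mem_append.1 hq with hq | hq
        · obtain ⟨u, hu, rfl⟩ := List.mem_map.1 hq
          rcases hprop p hp u (hhyp u hu).1 (by rw [hv1]; exact (hhyp u hu).2) with e | e
          · simp [e]
          · rw [hv1] at e; simp [e]
        · rw [List.mem_singleton.1 hq]
          simp [pts, h.act_lt hpz, h.act_q hpz hf]
    obtain ⟨l, hl, hle⟩ := hmaps _ hmem
    rw [tab_eq_iff] at hle
    have hsub : ∀ k ∈ l, k ∈ E.star := fun k hk => (List.mem_sublists.1 hl).subset hk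
    have hprod : ∀ l : List (List ℕ), (∀ k ∈ l, k ∈ E.star) → (l.map ymap).prod ∈ P ∧
        (l.map ymap).prod ∈ Subgroup.closure S ∧
        ∀ u < 2 ^ K.n, h.act (l.map ymap).prod u = cjs K (wd K E.sw) l u := by
      intro l
      induction l with
      | nil => exact fun _ => ⟨one_mem _, one_mem _, fun u hu => by simp [h.act_one hu, cjs]⟩
      | cons k l ih =>
        intro hl
        obtain ⟨h1, h2, h3⟩ := ih fun k' hk' => hl k' (List.mem_cons_of_mem _ hk')
        obtain ⟨k1, -, k3⟩ := hym k (hl k (List.mem_cons_self ..))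
        rw [List.map_cons, List.prod_cons]
        refine ⟨mul_mem k1 h1, mul_mem (Subgroup.subset_closure (Or.inl ⟨k, hl k (List.mem_cons_self ..), rfl⟩)) h2,
          fun u hu => ?_⟩
        have hlt := cjs_lt (l := l) (fun k' hk' => (hstar k' (hl k' (List.mem_cons_of_mem _ hk'))).1) hσlt hu
        rw [h.act_mul k3.1 (hPz _ h1) hu, h3 u hu, k3.2 _ hlt]
        rfl
    obtain ⟨hrP, hrS, hrA⟩ := hprod l hsub
    set r := (l.map ymap).prod
    have hd : r⁻¹ * p ∈ Q := (h.mem_iff (comm_mul (comm_inv (hPz r hrP)) hpz)).2 fun u hu => by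
      rw [h.act_mul (comm_inv (hPz r hrP)) hpz hu, hle u hu, ← hrA u hu, h.act_inv_left (hPz r hrP) hu]
    have hdS : r⁻¹ * p ∈ Subgroup.closure S :=
      Subgroup.closure_mono Set.subset_union_right (h.both_closure hD hg hgne hd (mul_mem (inv_mem hrP) hp).1)
    have := mul_mem hrS hdS
    rwa [mul_inv_cancel_left] at this
  have hcomm : ∀ a ∈ Subgroup.closure S, ∀ b ∈ Subgroup.closure S, a * b = b * a := by
    have h1 : Subgroup.closure S ≤ Subgroup.centralizer S := (Subgroup.closure_le _).2 hSc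
    have h2 : Subgroup.closure S ≤ Subgroup.centralizer (Subgroup.closure S : Set G) := by
      refine (Subgroup.closure_le _).2 fun x hx => Subgroup.mem_centralizer_iff.2 fun a ha => ?_
      exact (Subgroup.mem_centralizer_iff.1 (h1 ha) x hx).symm
    exact fun a ha b hb => Subgroup.mem_centralizer_iff.1 (h2 hb) a ha
  obtain ⟨y₁, y₂, ⟨a1, a2, -, -⟩, ⟨b1, b2, -, -⟩, hnc⟩ := h.noncomm_pair h8 hD hg hgne
  exact hnc (hcomm _ (hPS _ ⟨a1, Subgroup.mem_centralizer_singleton_iff.2 a2⟩)
    _ (hPS _ ⟨b1, Subgroup.mem_centralizer_singleton_iff.2 b2⟩))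

/-- Involutions of `C(z)` acting as `σ` are not conjugate to `z`. -/
theorem notConj (h : Code K z Q cd) (h8 : 8 < Nat.card Q) (hD : chkPair K D = true) (hm : Moves z Q)
    {E : ExclData} (hsw : Wok K E.sw = true) (hne : (pts K).any (fun a => wd K E.sw a != a) = true)
    (hst : chkStar K E = true) (hsp : chkStarPair K E = true) (hv : chkV1 K E = true)
    (hbas : chkBas K (wd K E.sw) E.bas = true) (hN : chkN K (wd K E.sw) E.bas = true)
    (hbig : ∀ y : G, y * z = z * y → y * y = 1 → y ∉ Q →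
      16 ≤ Nat.card (Q ⊓ Subgroup.centralizer ({y} : Set G) : Subgroup G))
    {s : G} (hs : h.Acts s (wd K E.sw)) (hs2 : s * s = 1) : ¬ IsConj z s := by
  classical
  intro hconj
  obtain ⟨a, ha⟩ := isConj_iff.1 hconj
  have hsQ : s ∉ Q := hs.not_mem hne
  have hzc : z ∉ Qc Q a := h.not_mem_Qc h8 (by rw [ha]; exact hsQ)
  -- the intersection with `Qc a` in the centralizer is trivial
  have hK : ∀ x ∈ Q, x * s = s * x → x ∈ Qc Q a → x = 1 := by
    intro x hx hxs hxc
    have hx2 : x * x = 1 := by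
      rcases h.ext.sq x hx with e | e
      · exact e
      · exact absurd (e ▸ mul_mem hxc hxc) hzc
    by_contra hx1
    have hxN : NonCentral z Q x := ⟨hx, hx2, hx1, fun e => hzc (e ▸ hxc)⟩
    obtain ⟨g, hgx⟩ := isConj_iff.1 (h.isConj_z hD hm hxN)
    have hgQ : g * z * g⁻¹ ∈ Q := hgx ▸ hx
    have h1 : (a⁻¹ * g) * z * (a⁻¹ * g)⁻¹ ∈ Q := by
      rw [show a⁻¹ * g * z * (a⁻¹ * g)⁻¹ = a⁻¹ * (g * z * g⁻¹) * a by group, hgx]
      exact mem_Qc.1 hxc
    have hsg : s ∈ Qc Q g := by
      have := mem_Qc.1 (h.symm h8 h1)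
      refine mem_Qc.2 ?_
      rwa [show (a⁻¹ * g)⁻¹ * z * (a⁻¹ * g) = g⁻¹ * (a * z * a⁻¹) * g by group, ha] at this
    exact h.noC h8 hD hsw hne hst hsp hv hgQ (hgx ▸ hxN.2.2.2) hsg hs2 hs
  set s' := a⁻¹ * z * a with hs'
  have hs'z : s' * z = z * s' := by
    have := hs.1
    rw [← ha] at this
    calc s' * z = a⁻¹ * (z * (a * z * a⁻¹)) * a := by rw [hs']; group
      _ = a⁻¹ * ((a * z * a⁻¹) * z) * a := by rw [this]
      _ = _ := by rw [hs']; group
  have hs'2 : s' * s' = 1 := by rw [hs', show a⁻¹ * z * a * (a⁻¹ * z * a) = a⁻¹ * (z * z) * a by group, h.ext.zz]; group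
  have hs'Q : s' ∉ Q := fun e => hzc (mem_Qc.2 e)
  have h16 := hbig s' hs'z hs'2 hs'Q
  obtain ⟨T, hT, hTv⟩ := h.afun_table hs hbas
  simp only [chkN, List.all_eq_true, Bool.or_eq_true, Bool.not_eq_true', Bool.and_eq_true, decide_eq_true_eq,
    List.contains_iff_mem] at hN
  rcases hN T hT with hc | ⟨⟨⟨hgr, hlt⟩, hcov⟩, hlen⟩
  · rw [h.coh_of_invol hs hs2 hTv] at hc; exact absurd hc (by simp)
  -- every element of `C_{Qc a}(z)` fixes the kernel
  have hfixU : ∀ p, p ∈ Qc Q a → p * z = z * p → ∀ u ∈ kerL K (wd K E.sw) T, h.act p u = u := by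
    intro p hp hpz u hu
    obtain ⟨hu1, hu2⟩ := List.mem_filter.1 hu
    obtain ⟨hlt', hfix⟩ := mem_fixL.1 hu1
    rw [beq_iff_eq, hTv u hu1] at hu2
    set x := h.rep u
    have hxQ : x ∈ Q := h.rep_mem u
    have e := h.afun_spec hs.1 hxQ (by rw [h.cd_rep hlt', hs.2 u hlt', hfix])
    rw [h.cd_rep hlt', hu2, pow_zero, mul_one, mul_inv_eq_iff_eq_mul] at e
    have hps : p * s = s * p := by
      have := (h.extc a).central p hp
      rwa [ha] at this
    have hcom : p * x * p⁻¹ * x⁻¹ = 1 := by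
      refine hK _ (mul_mem (h.ext.norm p hpz x hxQ) (inv_mem hxQ)) ?_ ?_
      · exact (((show Commute p s from hps).mul_left (show Commute x s from e.symm)).mul_left
          (Commute.inv_left (show Commute p s from hps))).mul_left (Commute.inv_left (show Commute x s from e.symm))
      · rw [show p * x * p⁻¹ * x⁻¹ = p * (x * p⁻¹ * x⁻¹) by group]
        exact mul_mem hp ((h.extc a).norm x (by rw [ha]; exact e.symm) _ (inv_mem hp))
    rw [mul_inv_eq_one] at hcom
    show cd (p * x * p⁻¹) = u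
    rw [hcom, h.cd_rep hlt']
  let L := (maps K (gensN K (wd K E.sw) T)).filter fun T' =>
    (pts K).all (fun b => T'.getD (wd K E.sw b) 0 == wd K E.sw (T'.getD b 0)) &&
      (kerL K (wd K E.sw) T).all fun u => T'.getD u 0 == u
  have hmemL : ∀ p, p ∈ Qc Q a → p * z = z * p → tab K (h.act p) ∈ L := by
    intro p hp hpz
    have hps : p * s = s * p := by
      have := (h.extc a).central p hp
      rwa [ha] at this
    have hcomm : ∀ b < 2 ^ K.n, h.act p (wd K E.sw b) = wd K E.sw (h.act p b) := fun b hb => by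
      rw [← hs.2 b hb, ← h.act_mul hpz hs.1 hb, hps, h.act_mul hs.1 hpz hb, hs.2 _ (h.act_lt hpz b)]
    refine List.mem_filter.2 ⟨mem_maps K _ _ (fun x y => h.act_xor hpz) (fun x => h.act_q hpz) hcov
      (fun q hq => hlt q.1 (List.mem_map.2 ⟨q, hq, rfl⟩)) ?_, ?_⟩
    · intro q hq
      have hq1 : q.1 < 2 ^ K.n := hlt q.1 (List.mem_map.2 ⟨q, hq, rfl⟩)
      obtain ⟨b, -, rfl⟩ := List.mem_map.1 hq
      dsimp only at hq1 ⊢
      split_ifs with hbU
      · rw [List.mem_singleton, hfixU p hp hpz b (hgr b (List.contains_iff_mem.1 hbU))]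
      · simp only [List.mem_filter, pts, List.mem_range, Bool.and_eq_true, beq_iff_eq, List.all_eq_true]
        refine ⟨h.act_lt hpz b, h.act_q hpz hq1, fun u hu => ?_⟩
        have hu' := hgr u hu
        have hult : u < 2 ^ K.n := (mem_fixL.1 (List.mem_filter.1 hu').1).1
        conv_lhs => arg 2; rw [← hfixU p hp hpz u hu']
        exact h.bq_act hpz hult hq1
    · simp only [Bool.and_eq_true, List.all_eq_true, pts, List.mem_range, beq_iff_eq]
      refine ⟨fun b hb => ?_, fun u hu => ?_⟩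
      · rw [tab_getD K (by rw [← hs.2 b hb]; exact h.act_lt hs.1 b), tab_getD K hb]
        exact hcomm b hb
      · rw [tab_getD K (mem_fixL.1 (List.mem_filter.1 hu).1).1]
        exact hfixU p hp hpz u hu
  have hinP : ∀ x : (Q ⊓ Subgroup.centralizer ({s'} : Set G) : Subgroup G),
      a * x.1 * a⁻¹ ∈ Qc Q a ∧ a * x.1 * a⁻¹ * z = z * (a * x.1 * a⁻¹) := fun x => by
    refine ⟨⟨x.1, x.2.1, rfl⟩, ?_⟩
    have := Subgroup.mem_centralizer_singleton_iff.1 x.2.2
    generalize (x : G) = w at this ⊢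
    rw [hs'] at this
    calc a * w * a⁻¹ * z = a * (w * (a⁻¹ * z * a)) * a⁻¹ := by group
      _ = a * ((a⁻¹ * z * a) * w) * a⁻¹ := by rw [this]
      _ = _ := by group
  let f : (Q ⊓ Subgroup.centralizer ({s'} : Set G) : Subgroup G) → {T' // T' ∈ L.toFinset} := fun x =>
    ⟨tab K (h.act (a * x.1 * a⁻¹)), List.mem_toFinset.2 (hmemL _ (hinP x).1 (hinP x).2)⟩
  have hf : Function.Injective f := fun x y e => by
    have e' := (tab_eq_iff K).1 (congrArg Subtype.val e)
    obtain ⟨hx1, hx2⟩ := hinP x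
    obtain ⟨hy1, hy2⟩ := hinP y
    set p := a * x.1 * a⁻¹
    set q := a * y.1 * a⁻¹
    have hd : p⁻¹ * q ∈ Q := (h.mem_iff (comm_mul (comm_inv hx2) hy2)).2 fun u hu => by
      rw [h.act_mul (comm_inv hx2) hy2 hu, ← e' u hu, h.act_inv_left hx2 hu]
    have hdc : p⁻¹ * q ∈ Qc Q a := mul_mem (inv_mem hx1) hy1
    have hds : p⁻¹ * q * s = s * (p⁻¹ * q) := by
      have := (h.extc a).central _ hdc
      rwa [ha] at this
    have := hK _ hd hds hdc
    rw [inv_mul_eq_one] at this
    exact Subtype.ext (mul_left_cancel (mul_right_cancel this))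
  have := Nat.card_le_card_of_injective f hf
  rw [Nat.card_eq_fintype_card (α := {T' // T' ∈ L.toFinset}), Fintype.card_coe] at this
  have := List.toFinset_card_le L
  have : L.length < 16 := hlen
  omega

end Code

end Cfsg.Agent.Invol.Big
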