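import Cfsg.Agent.Lib.Invol.Big.Coset

/-!
# Conjugates of the centre inside the extraspecial group
-/

set_option autoImplicit false
set_option linter.unusedSectionVars false

namespace Cfsg.Agent.Invol.Big

open Cfsg.Agent.Classical.BinCoc Cfsg.Agent.Spor.ExtraPair

/-- The data of transitivity on nonzero singular vectors and of the pairs over `v0`. -/
structure PairData where
  v0 : ℕ
  trs : List (ℕ × List ℕ)
  dl : List (ℕ × List ℕ)
  pa : ℕ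
  pb : ℕ

/-- The checks on the pair data. -/
def chkPair (K : Cert) (D : PairData) : Bool :=
  D.trs.all (fun p => Wok K p.2 && wd K p.2 p.1 == D.v0) &&
  (pts K).all (fun v => v == 0 || K.q v || (D.trs.map Prod.fst).contains v) &&
  (pts K).all (fun v => v == 0 || (pts K).any fun w => bq K w v) &&
  D.dl.all (fun p => Wok K p.2 && wd K p.2 D.v0 == D.v0) &&
  (pts K).all (fun w => w == 0 || w == D.v0 || K.q w || bq K D.v0 w ||
    D.dl.any fun p => p.1 == w && bq K w (wd K p.2 w)) &&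
  decide (D.v0 < 2 ^ K.n) && decide (D.pa < 2 ^ K.n) && decide (D.pb < 2 ^ K.n) && D.v0 != 0 && !K.q D.v0 &&
  !K.q D.pa && !K.q D.pb && !bq K D.v0 D.pa && !bq K D.v0 D.pb && bq K D.pa D.pb

namespace Code

variable {G : Type*} [Group G] [Finite G] {K : Cert} {z : G} {Q : Subgroup G} {cd : G → ℕ}

/-- The conjugate of `Q`. -/
def Qc (Q : Subgroup G) (g : G) : Subgroup G := Q.map (MulAut.conj g).toMonoidHom

theorem mem_Qc {g x : G} : x ∈ Qc Q g ↔ g⁻¹ * x * g ∈ Q := by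
  constructor
  · rintro ⟨q, hq, rfl⟩
    show g⁻¹ * (g * q * g⁻¹) * g ∈ Q
    simpa [mul_assoc] using hq
  · intro h
    exact ⟨_, h, show g * (g⁻¹ * x * g) * g⁻¹ = x by group⟩

theorem Qc_congr (h : Code K z Q cd) {g g' x : G} (e : g * z * g⁻¹ = g' * z * g'⁻¹) (hx : x ∈ Qc Q g) :
    x ∈ Qc Q g' := by
  obtain ⟨q, hq, rfl⟩ := hx
  refine mem_Qc.2 ?_
  show g'⁻¹ * (g * q * g⁻¹) * g' ∈ Q
  exact h.ext.conj_congr e hq

theorem extc (h : Code K z Q cd) (g : G) : Ext (g * z * g⁻¹) (Qc Q g) := h.ext.map_conj g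

theorem conj_ne_one (h : Code K z Q cd) (g : G) : g * z * g⁻¹ ≠ 1 := (h.extc g).ne

/-- Symmetry. -/
theorem symm (h : Code K z Q cd) (h8 : 8 < Nat.card Q) {g : G} (hg : g * z * g⁻¹ ∈ Q) : z ∈ Qc Q g :=
  h.ext.mem_pair hg (h.ext.exists_noncommuting hg h8)

theorem not_mem_Qc (h : Code K z Q cd) (h8 : 8 < Nat.card Q) {g : G} (hg : g * z * g⁻¹ ∉ Q) : z ∉ Qc Q g := by
  intro hz
  have h1 : g⁻¹ * z * g⁻¹⁻¹ ∈ Q := by rw [inv_inv]; exact mem_Qc.1 hz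
  have := mem_Qc.1 (h.symm h8 h1)
  rw [inv_inv] at this
  exact hg this

variable {D : PairData}

/-- A noncentral involution of `Q`. -/
def NonCentral (z : G) (Q : Subgroup G) (x : G) : Prop := x ∈ Q ∧ x * x = 1 ∧ x ≠ 1 ∧ x ≠ z

theorem NonCentral.cd_spec (h : Code K z Q cd) {x : G} (hx : NonCentral z Q x) :
    cd x ≠ 0 ∧ K.q (cd x) = false :=
  ⟨fun e => ((h.ker x hx.1).1 e).elim hx.2.2.1 hx.2.2.2,
    (h.sq_iff hx.1).1 hx.2.1⟩

theorem nonCentral_of (h : Code K z Q cd) {x : G} (hx : x ∈ Q) (h0 : cd x ≠ 0) (hq : K.q (cd x) = false) :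
    NonCentral z Q x :=
  ⟨hx, (h.sq_iff hx).2 hq, fun e => h0 (by rw [e, h.cd_one]), fun e => h0 (by rw [e, h.cd_z])⟩

theorem to_v0 (h : Code K z Q cd) (hD : chkPair K D = true) {x : G} (hx : NonCentral z Q x) :
    ∃ c, c * z = z * c ∧ cd (c * x * c⁻¹) = D.v0 := by
  obtain ⟨h0, hq⟩ := hx.cd_spec h
  simp only [chkPair, Bool.and_eq_true, List.all_eq_true, Bool.or_eq_true, beq_iff_eq, List.contains_iff_mem,
    List.mem_map, pts, List.mem_range] at hD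
  rcases hD.1.1.1.1.1.1.1.1.1.1.1.1.1.2 (cd x) (h.lt x hx.1) with (e | e) | ⟨p, hp, hpv⟩
  · exact absurd e h0
  · rw [hq] at e; exact absurd e (by simp)
  · obtain ⟨hw, hv⟩ := hD.1.1.1.1.1.1.1.1.1.1.1.1.1.1 p hp
    obtain ⟨c, hc, hca⟩ := h.exists_lift hw
    exact ⟨c, hc, by rw [← h.act_cd hc hx.1, hca _ (h.lt x hx.1), ← hpv, hv]⟩

theorem nondeg (h : Code K z Q cd) (hD : chkPair K D = true) {v : ℕ} (hv : v < 2 ^ K.n) (hv0 : v ≠ 0) :
    ∃ w < 2 ^ K.n, bq K w v = true := by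
  simp only [chkPair, Bool.and_eq_true, List.all_eq_true, Bool.or_eq_true, beq_iff_eq, List.any_eq_true,
    pts, List.mem_range] at hD
  exact (hD.1.1.1.1.1.1.1.1.1.1.1.1.2 v hv).resolve_left hv0

theorem conj_eq_of_cd (h : Code K z Q cd) (hD : chkPair K D = true) {x y : G} (hx : NonCentral z Q x)
    (hy : y ∈ Q) (e : cd x = cd y) : ∃ r ∈ Q, r * x * r⁻¹ = y :=
  h.exists_conj_of_cd hx.1 hy e (fun h0 => h.nondeg hD (h.lt x hx.1) h0) (hx.cd_spec h).1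

/-- The noncentral involutions of `Q` form one class of `C(z)`. -/
theorem trans (h : Code K z Q cd) (hD : chkPair K D = true) {x y : G} (hx : NonCentral z Q x)
    (hy : NonCentral z Q y) : ∃ c, c * z = z * c ∧ c * x * c⁻¹ = y := by
  obtain ⟨a, ha, hax⟩ := h.to_v0 hD hx
  obtain ⟨b, hb, hby⟩ := h.to_v0 hD hy
  have hax' : NonCentral z Q (a * x * a⁻¹) := nonCentral_of h (h.ext.norm a ha x hx.1)
    (by rw [← h.act_cd ha hx.1]; intro e
        have := h.act_inv_left ha (h.lt x hx.1)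
        rw [e] at this
        have h00 := h.act_xor (comm_inv ha) (Nat.two_pow_pos K.n) (Nat.two_pow_pos K.n)
        simp only [Nat.xor_self] at h00
        exact (hx.cd_spec h).1 (this.symm.trans h00))
    (by rw [← h.act_cd ha hx.1, h.act_q ha (h.lt x hx.1)]; exact (hx.cd_spec h).2)
  obtain ⟨r, hr, hre⟩ := h.conj_eq_of_cd hD hax' (h.ext.norm b hb y hy.1) (hax.trans hby.symm)
  refine ⟨b⁻¹ * r * a, comm_mul (comm_mul (comm_inv hb) (h.ext.central r hr)) ha, ?_⟩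
  calc b⁻¹ * r * a * x * (b⁻¹ * r * a)⁻¹ = b⁻¹ * (r * (a * x * a⁻¹) * r⁻¹) * b := by group
    _ = _ := by rw [hre]; group

/-- The extra hypothesis: `z` is not weakly closed in `Q`. -/
def Moves (z : G) (Q : Subgroup G) : Prop := ∃ g : G, g * z * g⁻¹ ∈ Q ∧ g * z * g⁻¹ ≠ z

theorem nonCentral_conj (h : Code K z Q cd) {g : G} (hg : g * z * g⁻¹ ∈ Q) (hne : g * z * g⁻¹ ≠ z) :
    NonCentral z Q (g * z * g⁻¹) :=
  ⟨hg, by rw [conj_mul, h.ext.zz, mul_one, mul_inv_cancel], h.conj_ne_one g, hne⟩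

theorem isConj_z (h : Code K z Q cd) (hD : chkPair K D = true) (hm : Moves z Q) {x : G} (hx : NonCentral z Q x) :
    IsConj z x := by
  obtain ⟨g, hg, hne⟩ := hm
  obtain ⟨c, -, hc⟩ := h.trans hD (h.nonCentral_conj hg hne) hx
  exact (isConj_iff.2 ⟨g, rfl⟩).trans (isConj_iff.2 ⟨c, hc⟩)

theorem isConj_z_Qc (h : Code K z Q cd) (hD : chkPair K D = true) (hm : Moves z Q) {g y : G}
    (hy : y ∈ Qc Q g) (h2 : y * y = 1) (h1 : y ≠ 1) : IsConj z y := by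
  have hx := mem_Qc.1 hy
  have e2 : g⁻¹ * y * g * (g⁻¹ * y * g) = 1 := by
    rw [show g⁻¹ * y * g * (g⁻¹ * y * g) = g⁻¹ * (y * y) * g by group, h2]; group
  refine IsConj.trans ?_ (isConj_iff.2 ⟨g, show g * (g⁻¹ * y * g) * g⁻¹ = y by group⟩)
  by_cases hz : g⁻¹ * y * g = z
  · rw [hz]
  · exact h.isConj_z hD hm ⟨hx, e2, fun e => h1 (by
      rw [show y = g * (g⁻¹ * y * g) * g⁻¹ by group, e]; group), hz⟩

/-- An element of `C(z)` centralizing `t` with a given action fixing the code of `t`. -/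
theorem stab_lift (h : Code K z Q cd) (hD : chkPair K D = true) {t : G} (ht : NonCentral z Q t) {w : List ℕ}
    (hw : Wok K w = true) (hfix : wd K w (cd t) = cd t) :
    ∃ c, h.Acts c (wd K w) ∧ c * t * c⁻¹ = t := by
  obtain ⟨c, hc, hca⟩ := h.exists_lift hw
  have e : cd (c * t * c⁻¹) = cd t := by rw [← h.act_cd hc ht.1, hca _ (h.lt t ht.1), hfix]
  obtain ⟨r, hr, hre⟩ := h.conj_eq_of_cd hD (nonCentral_of h (h.ext.norm c hc t ht.1) (e ▸ (ht.cd_spec h).1)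
    (e ▸ (ht.cd_spec h).2)) ht.1 e
  have hrz := h.ext.central r hr
  refine ⟨r * c, ⟨comm_mul hrz hc, fun a ha => ?_⟩, ?_⟩
  · rw [h.act_mul hrz hc ha, (h.mem_iff hrz).1 hr _ (h.act_lt hc a), hca a ha]
  · rw [show r * c * t * (r * c)⁻¹ = r * (c * t * c⁻¹) * r⁻¹ by group, hre]

theorem commute_of_both (h : Code K z Q cd) {g x y : G} (hne : g * z * g⁻¹ ≠ z) (hx : x ∈ Q) (hy : y ∈ Q)
    (hx' : x ∈ Qc Q g) (hy' : y ∈ Qc Q g) : x * y = y * x := by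
  rcases h.ext.comm x hx y hy with e | e
  · exact commutatorElement_eq_one_iff_mul_comm.1 e
  · rcases (h.extc g).comm x hx' y hy' with e' | e'
    · exact commutatorElement_eq_one_iff_mul_comm.1 e'
    · exact absurd (e'.symm.trans e) hne

theorem sq_of_both (h : Code K z Q cd) {g x : G} (hne : g * z * g⁻¹ ≠ z) (hx : x ∈ Q) (hx' : x ∈ Qc Q g) :
    x * x = 1 := by
  rcases h.ext.sq x hx with e | e
  · exact e
  · rcases (h.extc g).sq x hx' with e' | e'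
    · exact e'
    · exact absurd (e'.symm.trans e) hne

/-- `Q ⊓ Qc g` is `{1, z, t, z t}`. -/
theorem dcases (h : Code K z Q cd) (hD : chkPair K D = true) {g x : G}
    (hg : g * z * g⁻¹ ∈ Q) (hne : g * z * g⁻¹ ≠ z) (hx : x ∈ Q) (hx' : x ∈ Qc Q g) :
    cd x = 0 ∨ cd x = cd (g * z * g⁻¹) := by
  by_contra hcon
  rw [not_or] at hcon
  obtain ⟨hx0, hxt⟩ := hcon
  have ht := h.nonCentral_conj hg hne
  obtain ⟨c, hc, hct⟩ := h.to_v0 hD ht
  set t := g * z * g⁻¹ with htdef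
  set t' := (c * g) * z * (c * g)⁻¹ with ht'def
  have htt : c * t * c⁻¹ = t' := by rw [htdef, ht'def]; group
  have ht'Q : t' ∈ Q := by rw [← htt]; exact h.ext.norm c hc t hg
  have hne' : t' ≠ z := fun e => hne (by
    rw [show t = c⁻¹ * t' * c by rw [← htt]; group, e, comm_inv hc, inv_mul_cancel_right])
  set x1 := c * x * c⁻¹
  have hx1 : x1 ∈ Q := h.ext.norm c hc x hx
  have hx1' : x1 ∈ Qc Q (c * g) := mem_Qc.2 (by
    show (c * g)⁻¹ * (c * x * c⁻¹) * (c * g) ∈ Q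
    rw [show (c * g)⁻¹ * (c * x * c⁻¹) * (c * g) = g⁻¹ * x * g by group]
    exact mem_Qc.1 hx')
  have hcd1 : cd x1 = h.act c (cd x) := (h.act_cd hc hx).symm
  have hw0 : cd x1 ≠ 0 := by
    intro e
    rw [hcd1] at e
    have := h.act_inv_left hc (h.lt x hx)
    rw [e] at this
    have h00 := h.act_xor (comm_inv hc) (Nat.two_pow_pos K.n) (Nat.two_pow_pos K.n)
    simp only [Nat.xor_self] at h00
    exact hx0 (this.symm.trans h00)
  have hwv : cd x1 ≠ D.v0 := by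
    intro e
    rw [hcd1, ← hct, ← h.act_cd hc hg] at e
    exact hxt (by rw [← h.act_inv_left hc (h.lt x hx), e, h.act_inv_left hc (h.lt t hg)])
  have hwq : K.q (cd x1) = false := (h.sq_iff hx1).1 (h.sq_of_both hne' hx1 hx1')
  have htcd : cd t' = D.v0 := by rw [← htt]; exact hct
  have hwb : bq K D.v0 (cd x1) = false := by
    rw [← htcd]
    exact (h.commute_iff ht'Q hx1).1 (((h.extc (c * g)).central x1 hx1').symm)
  have hD' := hD
  simp only [chkPair, Bool.and_eq_true, List.all_eq_true, Bool.or_eq_true, beq_iff_eq, List.any_eq_true,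
    pts, List.mem_range] at hD'
  rcases hD'.1.1.1.1.1.1.1.1.1.1.2 (cd x1) (h.lt x1 hx1) with (((e | e) | e) | e) | ⟨p, hp, hpw, hpb⟩
  · exact hw0 e
  · exact hwv e
  · rw [hwq] at e; exact absurd e (by simp)
  · rw [hwb] at e; exact absurd e (by simp)
  obtain ⟨hw, hfix⟩ := hD'.1.1.1.1.1.1.1.1.1.1.1.2 p hp
  obtain ⟨d, hd, hdt⟩ := h.stab_lift hD (h.nonCentral_conj ht'Q hne') hw (by rw [← ht'def, htcd, hfix])
  have hx2 : d * x1 * d⁻¹ ∈ Q := h.ext.norm d hd.1 x1 hx1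
  have hx2' : d * x1 * d⁻¹ ∈ Qc Q (c * g) :=
    (h.extc (c * g)).norm d (mul_inv_eq_iff_eq_mul.1 hdt) x1 hx1'
  have := (h.commute_iff hx1 hx2).1 (h.commute_of_both hne' hx1 hx2 hx1' hx2')
  rw [← h.act_cd hd.1 hx1, hd.2 _ (h.lt x1 hx1)] at this
  rw [this] at hpb
  exact absurd hpb (by simp)

/-- Two noncommuting involutions of `Qc g` centralizing `z`. -/
theorem noncomm_pair (h : Code K z Q cd) (h8 : 8 < Nat.card Q) (hD : chkPair K D = true) {g : G}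
    (hg : g * z * g⁻¹ ∈ Q) (hne : g * z * g⁻¹ ≠ z) :
    ∃ y₁ y₂, (y₁ ∈ Qc Q g ∧ y₁ * z = z * y₁ ∧ y₁ * y₁ = 1 ∧ y₁ ≠ 1) ∧
      (y₂ ∈ Qc Q g ∧ y₂ * z = z * y₂ ∧ y₂ * y₂ = 1 ∧ y₂ ≠ 1) ∧ y₁ * y₂ ≠ y₂ * y₁ := by
  set t' := g⁻¹ * z * g⁻¹⁻¹ with ht'
  have ht'Q : t' ∈ Q := by rw [ht', inv_inv]; exact mem_Qc.1 (h.symm h8 hg)
  have hne' : t' ≠ z := fun e => hne (by
    rw [show g * z * g⁻¹ = g * t' * g⁻¹ by rw [e], ht']; group)
  obtain ⟨c, hc, hct⟩ := h.to_v0 hD (h.nonCentral_conj ht'Q hne')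
  have hci := comm_inv hc
  simp only [chkPair, Bool.and_eq_true, decide_eq_true_eq, bne_iff_ne, Bool.not_eq_true'] at hD
  obtain ⟨⟨⟨⟨⟨⟨⟨⟨⟨⟨-, hv0⟩, hpa⟩, hpb⟩, hv0n⟩, -⟩, hqa⟩, hqb⟩, hba⟩, hbb⟩, hab⟩ := hD
  have key : ∀ a, a < 2 ^ K.n → K.q a = false → bq K D.v0 a = false →
      g * (c⁻¹ * h.rep a * c) * g⁻¹ ∈ Qc Q g ∧
      (g * (c⁻¹ * h.rep a * c) * g⁻¹) * z = z * (g * (c⁻¹ * h.rep a * c) * g⁻¹) ∧
      (g * (c⁻¹ * h.rep a * c) * g⁻¹) * (g * (c⁻¹ * h.rep a * c) * g⁻¹) = 1 := by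
    intro a ha hqa hba
    have hxQ : c⁻¹ * h.rep a * c ∈ Q := by simpa using h.ext.norm c⁻¹ hci _ (h.rep_mem a)
    have hcom : h.rep a * (c * t' * c⁻¹) = (c * t' * c⁻¹) * h.rep a :=
      ((h.commute_iff (h.ext.norm c hc t' ht'Q) (h.rep_mem a)).2 (by rw [h.cd_rep ha, hct, hba])).symm
    refine ⟨mem_Qc.2 (by simpa [mul_assoc] using hxQ), ?_, ?_⟩
    · calc g * (c⁻¹ * h.rep a * c) * g⁻¹ * z = g * (c⁻¹ * (h.rep a * (c * t' * c⁻¹)) * c) * g⁻¹ := by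
            rw [ht']; group
        _ = g * (c⁻¹ * ((c * t' * c⁻¹) * h.rep a) * c) * g⁻¹ := by rw [hcom]
        _ = z * (g * (c⁻¹ * h.rep a * c) * g⁻¹) := by rw [ht']; group
    · calc g * (c⁻¹ * h.rep a * c) * g⁻¹ * (g * (c⁻¹ * h.rep a * c) * g⁻¹)
          = g * (c⁻¹ * (h.rep a * h.rep a) * c) * g⁻¹ := by group
        _ = 1 := by rw [(h.sq_iff (h.rep_mem a)).2 (by rw [h.cd_rep ha, hqa])]; group
  obtain ⟨k1, k2, k3⟩ := key _ hpa hqa hba
  obtain ⟨l1, l2, l3⟩ := key _ hpb hqb hbb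
  have hnc : ¬ h.rep D.pa * h.rep D.pb = h.rep D.pb * h.rep D.pa := fun e => by
    have := (h.commute_iff (h.rep_mem _) (h.rep_mem _)).1 e
    rw [h.cd_rep hpa, h.cd_rep hpb, hab] at this
    exact absurd this (by simp)
  refine ⟨_, _, ⟨k1, k2, k3, ?_⟩, ⟨l1, l2, l3, ?_⟩, fun e => hnc ?_⟩
  · intro e
    refine hnc ?_
    rw [show h.rep D.pa = c * (g⁻¹ * (g * (c⁻¹ * h.rep D.pa * c) * g⁻¹) * g) * c⁻¹ by group, e]
    group
  · intro e
    refine hnc ?_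
    rw [show h.rep D.pb = c * (g⁻¹ * (g * (c⁻¹ * h.rep D.pb * c) * g⁻¹) * g) * c⁻¹ by group, e]
    group
  · calc h.rep D.pa * h.rep D.pb
        = c * g⁻¹ * (g * (c⁻¹ * h.rep D.pa * c) * g⁻¹ * (g * (c⁻¹ * h.rep D.pb * c) * g⁻¹)) * g * c⁻¹ := by group
      _ = c * g⁻¹ * (g * (c⁻¹ * h.rep D.pb * c) * g⁻¹ * (g * (c⁻¹ * h.rep D.pa * c) * g⁻¹)) * g * c⁻¹ := by rw [e]
      _ = _ := by group

/-- An involution of `Qc g` centralizing `z` and outside `Q`. -/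
theorem exists_outside (h : Code K z Q cd) (h8 : 8 < Nat.card Q) (hD : chkPair K D = true) {g : G}
    (hg : g * z * g⁻¹ ∈ Q) (hne : g * z * g⁻¹ ≠ z) :
    ∃ y, y ∈ Qc Q g ∧ y * z = z * y ∧ y * y = 1 ∧ y ∉ Q := by
  obtain ⟨y₁, y₂, ⟨a1, a2, a3, -⟩, ⟨b1, b2, b3, -⟩, hnc⟩ := h.noncomm_pair h8 hD hg hne
  by_cases h1 : y₁ ∈ Q
  · by_cases h2 : y₂ ∈ Q
    · exact absurd (h.commute_of_both hne h1 h2 a1 b1) hnc
    · exact ⟨y₂, b1, b2, b3, h2⟩
  · exact ⟨y₁, a1, a2, a3, h1⟩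

end Code

end Cfsg.Agent.Invol.Big
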