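import Cfsg.Agent.Lib.Invol.Big.Pair

/-!
# A Sylow two-subgroup of the centralizer and the actions of its involutions
-/

set_option autoImplicit false
set_option linter.unusedSectionVars false

namespace Cfsg.Agent.Invol.Big

open Cfsg.Agent.Classical.BinCoc Cfsg.Agent.Spor.ExtraPair

/-- Data for a Sylow subgroup of the image. -/
structure SylData where
  gens : List (List ℕ)
  elems : List (List ℕ)
  conj : List (List ℕ)
  lev : ℕ

/-- The word of an element. -/
def ewd (S : SylData) (ix : List ℕ) : List ℕ := ix.flatMap fun i => S.gens.getD i []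

/-- The table of an element. -/
def etab (K : Cert) (S : SylData) (ix : List ℕ) : List ℕ := tab K (wd K (ewd S ix))

/-- The group checks. -/
def chkSyl (K : Cert) (S : SylData) : Bool :=
  S.gens.all (Wok K) &&
  S.elems.all (fun ix => ix.all (fun i => decide (i < S.gens.length))) &&
  decide (S.elems.length = 2 ^ S.lev) &&
  decide ((S.elems.map (etab K S)).Nodup) &&
  (S.elems.map (etab K S)).contains (tab K id) &&
  (List.range S.gens.length).all fun i => S.elems.all fun ix =>
    (S.elems.map (etab K S)).contains ((etab K S ix).map (wd K (S.gens.getD i [])))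

/-- The class checks: every involutive element is conjugate to one of the listed actions. -/
def chkCls (K : Cert) (S : SylData) (σs : List (List ℕ)) : Bool :=
  (S.conj.all (Wok K)) && S.elems.all fun ix =>
    !((pts K).all fun a => wd K (ewd S ix) (wd K (ewd S ix) a) == a) ||
      ((pts K).all fun a => wd K (ewd S ix) a == a) ||
      S.conj.any fun k => σs.any fun σ => (pts K).all fun a => wd K k (wd K (ewd S ix) a) == wd K σ (wd K k a)

namespace Code

variable {G : Type*} [Group G] {K : Cert} {z : G} {Q : Subgroup G} {cd : G → ℕ}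

/-- What is used of the Sylow subgroup. -/
structure IsTwoFull (z : G) (Q H : Subgroup G) : Prop where
  le : H ≤ Subgroup.centralizer ({z} : Set G)
  Q_le : Q ≤ H
  two : IsPGroup 2 H
  full : ∀ m : ℕ, Nat.card H = 2 ^ m → ¬ 2 ^ (m + 1) ∣ Nat.card (Subgroup.centralizer ({z} : Set G))

theorem exists_syl [Finite G] (h : Code K z Q cd) {S : SylData} (hS : chkSyl K S = true) {m : ℕ} (hm : Odd m)
    (hcard : Nat.card (Subgroup.centralizer ({z} : Set G)) = m * (2 ^ S.lev * Nat.card Q)) :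
    ∃ H : Subgroup G, IsTwoFull z Q H ∧ ∀ x ∈ H, ∃ ix ∈ S.elems, ∀ a < 2 ^ K.n, h.act x a = wd K (ewd S ix) a := by
  classical
  haveI : Fact (Nat.Prime 2) := ⟨Nat.prime_two⟩
  simp only [chkSyl, Bool.and_eq_true, List.all_eq_true, decide_eq_true_eq, List.contains_iff_mem,
    List.mem_map, List.mem_range] at hS
  obtain ⟨⟨⟨⟨⟨hw, hidx⟩, hlen⟩, hnd⟩, hid⟩, hclosed⟩ := hS
  have hgw : ∀ i : Fin S.gens.length, Wok K (S.gens.getD i []) = true := fun i => by
    rw [List.getD_eq_getElem _ _ i.2]; exact hw _ (List.getElem_mem i.2)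
  choose c hc hca using fun i => h.exists_lift (hgw i)
  set X : Set G := Set.range c ∪ Q
  set H := Subgroup.closure X
  have hQz : ∀ q ∈ Q, q * z = z * q := h.ext.central
  have hXz : ∀ x ∈ X, x * z = z * x := by
    rintro x (⟨i, rfl⟩ | hx)
    · exact hc i
    · exact hQz x hx
  have hHle : H ≤ Subgroup.centralizer ({z} : Set G) :=
    (Subgroup.closure_le _).2 fun x hx => Subgroup.mem_centralizer_singleton_iff.2 (hXz x hx)
  have hHz : ∀ x ∈ H, x * z = z * x := fun x hx => Subgroup.mem_centralizer_singleton_iff.1 (hHle hx)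
  let good : G → Prop := fun x => x * z = z * x ∧ ∃ ix ∈ S.elems, ∀ a < 2 ^ K.n, h.act x a = wd K (ewd S ix) a
  have hstep : ∀ x ∈ X, ∀ y, good y → good (x * y) := by
    rintro x hx y ⟨hy, ix, hix, hya⟩
    refine ⟨comm_mul (hXz x hx) hy, ?_⟩
    rcases hx with ⟨i, rfl⟩ | hx
    · obtain ⟨ix', hix', e⟩ := hclosed i i.2 ix hix
      rw [etab, etab, tab, tab, List.map_map] at e
      refine ⟨ix', hix', fun a ha => ?_⟩
      have e2 := List.map_inj_left.1 e a (List.mem_range.2 ha)
      rw [Function.comp_apply] at e2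
      rw [h.act_mul (hc i) hy ha, hya a ha, hca i _ (by rw [← hya a ha]; exact h.act_lt hy a), e2]
    · refine ⟨ix, hix, fun a ha => ?_⟩
      rw [h.act_mul (hQz x hx) hy ha, (h.mem_iff (hQz x hx)).1 hx _ (h.act_lt hy a), hya a ha]
  have hgood : ∀ x ∈ H, good x := by
    intro x hx
    induction hx using Subgroup.closure_induction_left with
    | one =>
      obtain ⟨ix, hix, e⟩ := hid
      exact ⟨by simp, ix, hix, fun a ha => by rw [h.act_one ha]; exact ((tab_eq_iff K).1 e a ha).symm⟩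
    | mul_left x hx y hy ih => exact hstep x hx y ih
    | inv_mul_cancel x hx y hy ih =>
      have hpow : ∀ k : ℕ, good (x ^ k * y) := fun k => by
        induction k with
        | zero => simpa using ih
        | succ k ihk => rw [pow_succ', mul_assoc]; exact hstep x hx _ ihk
      have : x⁻¹ = x ^ (orderOf x - 1) := by
        rw [inv_eq_iff_mul_eq_one, ← pow_succ', Nat.sub_add_cancel (orderOf_pos x), pow_orderOf_eq_one]
      rw [this]; exact hpow _
  have hreach : ∀ ix ∈ S.elems, ∃ r ∈ H, ∀ a < 2 ^ K.n, h.act r a = wd K (ewd S ix) a := by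
    intro ix hix
    suffices ∀ l : List ℕ, (∀ i ∈ l, i < S.gens.length) →
        ∃ r ∈ H, ∀ a < 2 ^ K.n, h.act r a = wd K (ewd S l) a from this ix (hidx ix hix)
    intro l
    induction l with
    | nil => exact fun _ => ⟨1, one_mem _, fun a ha => by rw [h.act_one ha]; rfl⟩
    | cons i l ih =>
      intro hl
      obtain ⟨r, hr, hra⟩ := ih fun j hj => hl j (List.mem_cons_of_mem _ hj)
      refine ⟨c ⟨i, hl i (List.mem_cons_self ..)⟩ * r,
        mul_mem (Subgroup.subset_closure (Or.inl ⟨_, rfl⟩)) hr, fun a ha => ?_⟩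
      rw [h.act_mul (hc _) (hHz r hr) ha, hra a ha, hca _ _ (by rw [← hra a ha]; exact h.act_lt (hHz r hr) a),
        show ewd S (i :: l) = S.gens.getD i [] ++ ewd S l by simp [ewd], wd_append]
  choose r hr hra using fun j : Fin S.elems.length => hreach _ (List.getElem_mem j.2)
  have hbij : Function.Bijective (fun p : Fin S.elems.length × Q =>
      (⟨r p.1 * (p.2 : G), mul_mem (hr p.1) (Subgroup.subset_closure (Or.inr p.2.2))⟩ : H)) := by
    constructor
    · rintro ⟨i, q⟩ ⟨j, q'⟩ e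
      have e' : r i * (q : G) = r j * (q' : G) := congrArg Subtype.val e
      have hij : i = j := by
        have hinj := List.nodup_iff_injective_getElem.1 hnd
        refine Fin.ext (congrArg Fin.val (@hinj ⟨i, by simp⟩ ⟨j, by simp⟩ ?_) :)
        simp only [List.getElem_map]
        refine (tab_eq_iff K).2 fun a ha => ?_
        rw [← hra i a ha, ← hra j a ha]
        have h1 : r j = r i * ((q : G) * (q' : G)⁻¹) := by rw [← mul_assoc, e']; group
        have hqq := Q.mul_mem q.2 (Q.inv_mem q'.2)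
        rw [h1, h.act_mul (hHz _ (hr i)) (hQz _ hqq) ha, (h.mem_iff (hQz _ hqq)).1 hqq a ha]
      subst hij
      exact Prod.ext rfl (Subtype.ext (mul_left_cancel e'))
    · rintro ⟨x, hx⟩
      obtain ⟨hxz, ix, hix, hxa⟩ := hgood x hx
      obtain ⟨j, hj, rfl⟩ := List.getElem_of_mem hix
      have hrz := hHz _ (hr ⟨j, hj⟩)
      have hq : (r ⟨j, hj⟩)⁻¹ * x ∈ Q := (h.mem_iff (comm_mul (comm_inv hrz) hxz)).2 fun a ha => by
        rw [h.act_mul (comm_inv hrz) hxz ha, hxa a ha, ← hra ⟨j, hj⟩ a ha, h.act_inv_left hrz ha]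
      exact ⟨(⟨j, hj⟩, ⟨_, hq⟩), Subtype.ext (mul_inv_cancel_left _ _)⟩
  have hH : Nat.card H = 2 ^ S.lev * Nat.card Q := by
    rw [← Nat.card_eq_of_bijective _ hbij, Nat.card_prod, Nat.card_fin, hlen]
  obtain ⟨k, hk⟩ := IsPGroup.iff_card.1 h.two
  have hH2 : Nat.card H = 2 ^ (S.lev + k) := by rw [hH, hk, pow_add]
  refine ⟨H, ⟨hHle, fun q hq => Subgroup.subset_closure (Or.inr hq), IsPGroup.of_card hH2, fun l hl hdvd => ?_⟩,
    fun x hx => (hgood x hx).2⟩
  rw [hH2] at hl
  have hle := Nat.pow_right_injective le_rfl hl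
  rw [hcard, hk, ← pow_add, ← hle, pow_succ'] at hdvd
  exact (Nat.not_even_iff_odd.2 hm) (even_iff_two_dvd.2 (Nat.dvd_of_mul_dvd_mul_right (Nat.two_pow_pos _) hdvd))

variable [Finite G] {H : Subgroup G}

/-- An involution of the centralizer is conjugate in it into the full subgroup. -/
theorem IsTwoFull.conj_mem (hH : IsTwoFull z Q H) {x : G} (hx : x * z = z * x) (hx2 : x * x = 1) :
    ∃ c, c * z = z * c ∧ c * x * c⁻¹ ∈ H := by
  classical
  haveI : Fact (Nat.Prime 2) := ⟨Nat.prime_two⟩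
  set C := Subgroup.centralizer ({z} : Set G)
  obtain ⟨l, hl⟩ := IsPGroup.iff_card.1 hH.two
  have hHC : Nat.card (H.subgroupOf C) = 2 ^ l := by
    rw [Nat.card_congr (Subgroup.subgroupOfEquivOfLe hH.le).toEquiv, hl]
  obtain ⟨P, hP⟩ := (IsPGroup.of_card hHC).exists_le_sylow
  have hPe : (P : Subgroup C) = H.subgroupOf C := by
    refine (Subgroup.eq_of_le_of_card_ge hP ?_).symm
    obtain ⟨n, hn⟩ := IsPGroup.iff_card.1 P.isPGroup'
    rw [hn, hHC]
    refine Nat.pow_le_pow_right (by norm_num) ?_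
    by_contra hlt
    exact hH.full l hl ((pow_dvd_pow 2 (by omega : l + 1 ≤ n)).trans (hn ▸ Subgroup.card_subgroup_dvd_card _))
  let x' : C := ⟨x, Subgroup.mem_centralizer_singleton_iff.2 hx⟩
  have hx'2 : IsPGroup 2 (Subgroup.zpowers x') := by
    intro ⟨w, hw⟩
    obtain ⟨k, rfl⟩ := Subgroup.mem_zpowers_iff.1 hw
    refine ⟨1, Subtype.ext ?_⟩
    show (x' ^ k) ^ (2 ^ 1) = 1
    rw [pow_one, pow_two, ← (Commute.refl x').mul_zpow, show x' * x' = 1 from Subtype.ext hx2, one_zpow]
  obtain ⟨R, hR⟩ := hx'2.exists_le_sylow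
  obtain ⟨c, hc⟩ := MulAction.exists_smul_eq C R P
  refine ⟨c, Subgroup.mem_centralizer_singleton_iff.1 c.2, ?_⟩
  have : MulAut.conj c x' ∈ (P : Subgroup C) := by
    rw [← hc, Sylow.coe_subgroup_smul]
    exact Subgroup.smul_mem_pointwise_smul x' (MulAut.conj c) _ (hR (Subgroup.mem_zpowers x'))
  rw [hPe, Subgroup.mem_subgroupOf] at this
  exact this

/-- Every involution of the whole group is conjugate into the full subgroup. -/
theorem IsTwoFull.global (h : Code K z Q cd) (hH : IsTwoFull z Q H) {x : G} (hx2 : x * x = 1) :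
    ∃ g, g * x * g⁻¹ ∈ H := by
  classical
  haveI : Fact (Nat.Prime 2) := ⟨Nat.prime_two⟩
  obtain ⟨l, hl⟩ := IsPGroup.iff_card.1 hH.two
  obtain ⟨P, hP⟩ := hH.two.exists_le_sylow
  have hPz : ∀ p ∈ (P : Subgroup G), p * z = z * p → p ∈ H := by
    intro p hp hpz
    set I := (P : Subgroup G) ⊓ Subgroup.centralizer ({z} : Set G)
    have hle : H ≤ I := le_inf hP hH.le
    have he : H = I := by
      refine Subgroup.eq_of_le_of_card_ge hle ?_
      obtain ⟨n, hn⟩ := IsPGroup.iff_card.1 (P.isPGroup'.to_le (inf_le_left : I ≤ _))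
      rw [hn, hl]
      refine Nat.pow_le_pow_right (by norm_num) ?_
      by_contra hlt
      exact hH.full l hl ((pow_dvd_pow 2 (by omega : l + 1 ≤ n)).trans
        (hn ▸ Subgroup.card_dvd_of_le (inf_le_right : I ≤ _)))
    rw [he]; exact ⟨hp, Subgroup.mem_centralizer_singleton_iff.2 hpz⟩
  have heq : (P : Subgroup G) = H := by
    by_contra hne
    haveI : Group.IsNilpotent (P : Subgroup G) := P.isPGroup'.isNilpotent
    have hlt : H.subgroupOf (P : Subgroup G) < ⊤ := lt_top_iff_ne_top.2 fun e =>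
      hne (le_antisymm (Subgroup.subgroupOf_eq_top.1 e) hP)
    obtain ⟨⟨p, hp⟩, hpn, hpH⟩ := SetLike.exists_of_lt (Group.normalizerCondition_of_isNilpotent _ hlt)
    rw [Subgroup.mem_subgroupOf] at hpH
    refine hpH (hPz p hp ?_)
    have hconj : ∀ y ∈ H, p⁻¹ * y * p ∈ H := fun y hy => by
      have := (Subgroup.mem_normalizer_iff''.1 hpn ⟨y, hP hy⟩).1 (by rwa [Subgroup.mem_subgroupOf])
      rw [Subgroup.mem_subgroupOf] at this
      exact this
    have hconj' : ∀ y ∈ H, p * y * p⁻¹ ∈ H := fun y hy => by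
      have := (Subgroup.mem_normalizer_iff.1 hpn ⟨y, hP hy⟩).1 (by rwa [Subgroup.mem_subgroupOf])
      rw [Subgroup.mem_subgroupOf] at this
      exact this
    have hzH := hH.Q_le h.ext.mem
    set z' := p * z * p⁻¹
    have hcen : ∀ y ∈ H, y * z' = z' * y := by
      intro y hy
      have h1 := hconj y hy
      have h2 : (p⁻¹ * y * p) * z = z * (p⁻¹ * y * p) := Subgroup.mem_centralizer_singleton_iff.1 (hH.le h1)
      calc y * z' = p * ((p⁻¹ * y * p) * z) * p⁻¹ := by simp only [z']; group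
        _ = p * (z * (p⁻¹ * y * p)) * p⁻¹ := by rw [h2]
        _ = z' * y := by simp only [z']; group
    have hz'Q : z' ∈ Q := h.ext.self z' fun q hq => hcen q (hH.Q_le hq)
    rcases h.ext.cen z' hz'Q (fun q hq => hcen q (hH.Q_le hq)) with e | e
    · exact absurd (conj_eq_one_iff.1 e) h.ne
    · calc p * z = p * z * p⁻¹ * p := by group
        _ = z * p := by rw [show p * z * p⁻¹ = z from e]
  have hx' : IsPGroup 2 (Subgroup.zpowers x) := by
    intro ⟨w, hw⟩
    obtain ⟨k, rfl⟩ := Subgroup.mem_zpowers_iff.1 hw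
    refine ⟨1, Subtype.ext ?_⟩
    show (x ^ k) ^ (2 ^ 1) = 1
    rw [pow_one, pow_two, ← (Commute.refl x).mul_zpow, hx2, one_zpow]
  obtain ⟨R, hR⟩ := hx'.exists_le_sylow
  obtain ⟨g, hg⟩ := MulAction.exists_smul_eq G R P
  refine ⟨g, ?_⟩
  rw [← heq, ← hg, Sylow.coe_subgroup_smul]
  exact Subgroup.smul_mem_pointwise_smul x (MulAut.conj g) _ (hR (Subgroup.mem_zpowers x))

/-- Involutions of the centralizer outside `Q` act, up to conjugation, in a listed way. -/
theorem classify (h : Code K z Q cd) {S : SylData} (hH : IsTwoFull z Q H)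
    (hact : ∀ x ∈ H, ∃ ix ∈ S.elems, ∀ a < 2 ^ K.n, h.act x a = wd K (ewd S ix) a) {σs : List (List ℕ)}
    (hcls : chkCls K S σs = true) {x : G} (hx : x * z = z * x) (hx2 : x * x = 1) (hxQ : x ∉ Q) :
    ∃ c, c * z = z * c ∧ ∃ σ ∈ σs, h.Acts (c * x * c⁻¹) (wd K σ) := by
  obtain ⟨c, hc, hcH⟩ := hH.conj_mem hx hx2
  set y := c * x * c⁻¹ with hy
  have hyz : y * z = z * y := comm_mul (comm_mul hc hx) (comm_inv hc)
  have hy2 : y * y = 1 := by rw [hy, conj_mul, hx2, mul_one, mul_inv_cancel]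
  have hyQ : y ∉ Q := fun e => hxQ (by
    have := h.ext.norm c⁻¹ (comm_inv hc) y e
    rwa [hy, inv_inv, show c⁻¹ * (c * x * c⁻¹) * c = x by group] at this)
  obtain ⟨ix, hix, hya⟩ := hact y hcH
  simp only [chkCls, Bool.and_eq_true, List.all_eq_true, Bool.or_eq_true, Bool.not_eq_true', List.all_eq_false,
    List.any_eq_true, beq_iff_eq, pts, List.mem_range] at hcls
  obtain ⟨hk', hcls⟩ := hcls
  rcases hcls ix hix with (⟨a, ha, hne⟩ | hid) | ⟨k, hk, σ, hσ, hkσ⟩
  · exfalso
    apply hne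
    rw [← hya a ha, ← hya _ (h.act_lt hyz a), ← h.act_mul hyz hyz ha, hy2, h.act_one ha]
  · exact absurd ((h.mem_iff hyz).2 fun a ha => (hya a ha).trans (hid a ha)) hyQ
  · obtain ⟨d, hd, hda⟩ := h.exists_lift (hk' k hk)
    refine ⟨d * c, comm_mul hd hc, σ, hσ, ?_⟩
    have := Acts.conj (h := h) (τ := wd K σ) (c := y) (g := d) (σ := wd K (ewd S ix)) (γ := wd K k)
      ⟨hyz, hya⟩ ⟨hd, hda⟩ (fun a ha _ => hkσ a ha)
    rwa [hy, show d * (c * x * c⁻¹) * d⁻¹ = d * c * x * (d * c)⁻¹ by group] at this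

end Code

end Cfsg.Agent.Invol.Big
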